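import Groth.Prelude.Def_QuadGrp2
import Mathlib.AlgebraicGeometry.Morphisms.Smooth
import Mathlib.AlgebraicGeometry.Gluing
import Mathlib.Tactic

/-! A scheme with the functor of points of an algebra is the spectrum of that algebra. -/

namespace QuadSch

open CategoryTheory AlgebraicGeometry Limits

universe u

variable {R : Type u} [CommRing R]

/-- The functor of points of `X` on `R`-algebras is `Hom(S, -)`, naturally. -/
structure PointsEquiv (X : Over (Spec (CommRingCat.of R))) (S : Type u) [CommRing S] [Algebra R S] where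
  toHom : ∀ (A : Type u) [CommRing A] [Algebra R A], (QuadGrp.specOver R A ⟶ X) ≃ (S →ₐ[R] A)
  natural : ∀ (A B : Type u) [CommRing A] [Algebra R A] [CommRing B] [Algebra R B] (φ : A →ₐ[R] B)
    (y : QuadGrp.specOver R A ⟶ X), toHom B (QuadGrp.specOverMap R φ ≫ y) = φ.comp (toHom A y)

namespace PointsEquiv

variable {X : Over (Spec (CommRingCat.of R))} {S : Type u} [CommRing S] [Algebra R S]
  (P : PointsEquiv X S)

/-- The universal point. -/
noncomputable def univ : QuadGrp.specOver R S ⟶ X := (P.toHom S).symm (AlgHom.id R S)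

/-- The universal point, as a morphism of schemes. -/
noncomputable def uLeft : Spec (CommRingCat.of S) ⟶ X.left := P.univ.left

theorem uLeft_comp : P.uLeft ≫ X.hom = Spec.map (CommRingCat.ofHom (algebraMap R S)) := Over.w P.univ

theorem map_univ {A : Type u} [CommRing A] [Algebra R A] (φ : S →ₐ[R] A) :
    QuadGrp.specOverMap R φ ≫ P.univ = (P.toHom A).symm φ := by
  apply (P.toHom A).injective
  rw [P.natural, Equiv.apply_symm_apply, univ, Equiv.apply_symm_apply, AlgHom.comp_id]

theorem exists_lift_spec (A : CommRingCat.{u}) (j : Spec A ⟶ X.left) :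
    ∃ w : Spec A ⟶ Spec (CommRingCat.of S), w ≫ P.uLeft = j := by
  let f := Spec.preimage (j ≫ X.hom)
  letI : Algebra R A := f.hom.toAlgebra
  have hf : Spec.map (CommRingCat.ofHom (algebraMap R A)) = j ≫ X.hom := Spec.map_preimage _
  let y : QuadGrp.specOver R (A : Type u) ⟶ X := Over.homMk j hf.symm
  refine ⟨(QuadGrp.specOverMap R (P.toHom A y)).left, ?_⟩
  have := congrArg CommaMorphism.left (P.map_univ (P.toHom A y))
  rw [Equiv.symm_apply_apply] at this
  exact this

theorem eq_spec (A : CommRingCat.{u}) {a c : Spec A ⟶ Spec (CommRingCat.of S)}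
    (h : a ≫ P.uLeft = c ≫ P.uLeft) : a = c := by
  let πS : Spec (CommRingCat.of S) ⟶ Spec (CommRingCat.of R) :=
    Spec.map (CommRingCat.ofHom (algebraMap R S))
  have hu : P.uLeft ≫ X.hom = πS := P.uLeft_comp
  have hac : a ≫ πS = c ≫ πS := by rw [← hu, reassoc_of% h]
  let fa := Spec.preimage a
  let fc := Spec.preimage c
  let f := Spec.preimage (a ≫ πS)
  letI : Algebra R A := f.hom.toAlgebra
  have ha : CommRingCat.ofHom (algebraMap R S) ≫ fa = f := by
    apply Spec.map_injective
    rw [Spec.map_comp, Spec.map_preimage, Spec.map_preimage]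
  have hc : CommRingCat.ofHom (algebraMap R S) ≫ fc = f := by
    apply Spec.map_injective
    rw [Spec.map_comp, Spec.map_preimage, Spec.map_preimage, hac]
  let φa : S →ₐ[R] A := { fa.hom with commutes' := fun r => congrArg (fun t => t.hom r) ha }
  let φc : S →ₐ[R] A := { fc.hom with commutes' := fun r => congrArg (fun t => t.hom r) hc }
  have ea : (QuadGrp.specOverMap R φa).left = a := Spec.map_preimage a
  have ec : (QuadGrp.specOverMap R φc).left = c := Spec.map_preimage c
  have : φa = φc := by
    apply (P.toHom A).symm.injective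
    rw [← P.map_univ, ← P.map_univ]
    refine Over.OverMorphism.ext ?_
    rw [Over.comp_left, Over.comp_left, ea, ec]
    exact h
  rw [← ea, ← ec, this]

theorem eq_of_scheme {T : Scheme.{u}} {a c : T ⟶ Spec (CommRingCat.of S)}
    (h : a ≫ P.uLeft = c ≫ P.uLeft) : a = c := by
  refine Scheme.Cover.hom_ext T.affineCover _ _ fun i => ?_
  haveI : IsAffine (T.affineCover.X i) := by infer_instance
  refine (cancel_epi (T.affineCover.X i).isoSpec.inv).mp ?_
  exact P.eq_spec _ (by simp only [Category.assoc, h])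

theorem isIso_univ : IsIso P.uLeft := by
  let 𝒰 := X.left.affineCover
  have hex : ∀ i, ∃ w : 𝒰.X i ⟶ Spec (CommRingCat.of S), w ≫ P.uLeft = 𝒰.f i := fun i => by
    haveI : IsAffine (𝒰.X i) := by infer_instance
    obtain ⟨w, hw⟩ := P.exists_lift_spec _ ((𝒰.X i).isoSpec.inv ≫ 𝒰.f i)
    exact ⟨(𝒰.X i).isoSpec.hom ≫ w, by rw [Category.assoc, hw, Iso.hom_inv_id_assoc]⟩
  choose w hw using hex
  let v : X.left ⟶ Spec (CommRingCat.of S) := Scheme.Cover.glueMorphisms 𝒰 w fun i j =>
    P.eq_of_scheme (by rw [Category.assoc, Category.assoc, hw, hw, pullback.condition])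
  have hv : v ≫ P.uLeft = 𝟙 _ := Scheme.Cover.hom_ext 𝒰 _ _ fun i => by
    rw [← Category.assoc, Category.comp_id]
    show (𝒰.f i ≫ Scheme.Cover.glueMorphisms 𝒰 w _) ≫ P.uLeft = _
    rw [Scheme.Cover.ι_glueMorphisms, hw]
  refine ⟨v, P.eq_of_scheme ?_, hv⟩
  rw [Category.assoc, hv]
  exact (Category.comp_id _).trans (Category.id_comp _).symm

/-- The isomorphism with the spectrum. -/
noncomputable def iso : Spec (CommRingCat.of S) ≅ X.left :=
  haveI := P.isIso_univ
  @asIso _ _ _ _ P.uLeft P.isIso_univ

theorem iso_hom_comp : P.iso.hom ≫ X.hom = Spec.map (CommRingCat.ofHom (algebraMap R S)) :=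
  P.uLeft_comp

include P in
theorem isAffineHom : IsAffineHom X.hom := by
  rw [← P.iso.inv_hom_id_assoc X.hom, P.iso_hom_comp]
  infer_instance

include P in
theorem smooth_iff : AlgebraicGeometry.Smooth X.hom ↔ (algebraMap R S).Smooth := by
  rw [← MorphismProperty.cancel_left_of_respectsIso @AlgebraicGeometry.Smooth P.iso.hom, P.iso_hom_comp,
    HasRingHomProperty.Spec_iff (P := @AlgebraicGeometry.Smooth)]
  rfl

include P in
theorem flat_iff : AlgebraicGeometry.Flat X.hom ↔ (algebraMap R S).Flat := by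
  rw [← MorphismProperty.cancel_left_of_respectsIso @AlgebraicGeometry.Flat P.iso.hom, P.iso_hom_comp,
    HasRingHomProperty.Spec_iff (P := @AlgebraicGeometry.Flat)]
  rfl

end PointsEquiv

end QuadSch
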