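import Groth.Agent.QuadSch.Alt
import Groth.Agent.QuadSch.Yoneda
import Mathlib.Tactic

/-! The coordinate algebras of the orthogonal groups. -/

namespace QuadSch

open Matrix TensorProduct QuadGrpLib CategoryTheory AlgebraicGeometry MonObj

universe u

section Zeros

variable {R : Type u} [CommRing R] {σ : Type} {κ : Type} (rel : κ → MvPolynomial σ R)

/-- The coordinate algebra of a zero locus. -/
abbrev ZeroAlg : Type u := MvPolynomial σ R ⧸ Ideal.span (Set.range rel)

/-- Its points. -/
noncomputable def zeroAlgEquiv (A : Type u) [CommRing A] [Algebra R A] :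
    (ZeroAlg rel →ₐ[R] A) ≃ {x : σ → A // ∀ r, MvPolynomial.aeval x (rel r) = 0} where
  toFun f := ⟨fun s => f (Ideal.Quotient.mk _ (MvPolynomial.X s)), fun r => by
    have h : MvPolynomial.aeval (fun s => f (Ideal.Quotient.mk _ (MvPolynomial.X s))) (rel r) =
        f (Ideal.Quotient.mkₐ R _ (rel r)) := by
      rw [← AlgHom.comp_apply f]
      congr 1
      exact MvPolynomial.algHom_ext fun s => by simp
    rw [h, show Ideal.Quotient.mkₐ R (Ideal.span (Set.range rel)) (rel r) = 0 from
      Ideal.Quotient.eq_zero_iff_mem.mpr (Ideal.subset_span ⟨r, rfl⟩), map_zero]⟩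
  invFun x := Ideal.Quotient.liftₐ _ (MvPolynomial.aeval x.1) fun p hp => by
    induction hp using Submodule.span_induction with
    | mem p hp => obtain ⟨r, rfl⟩ := hp; exact x.2 r
    | zero => exact map_zero _
    | add p q _ _ hp hq => rw [map_add, hp, hq, add_zero]
    | smul a p _ hp => rw [smul_eq_mul, map_mul, hp, mul_zero]
  left_inv f := by
    refine Ideal.Quotient.algHom_ext R ?_
    refine MvPolynomial.algHom_ext fun s => ?_
    simp
  right_inv x := by
    refine Subtype.ext (funext fun s => ?_)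
    simp

theorem zeroAlgEquiv_natural {A B : Type u} [CommRing A] [Algebra R A] [CommRing B] [Algebra R B]
    (φ : A →ₐ[R] B) (f : ZeroAlg rel →ₐ[R] A) (s : σ) :
    (zeroAlgEquiv rel B (φ.comp f)).1 s = φ ((zeroAlgEquiv rel A f).1 s) := rfl

theorem zeroAlg_finitePresentation [Finite σ] [Finite κ] : Algebra.FinitePresentation R (ZeroAlg rel) :=
  Algebra.FinitePresentation.quotient (Submodule.fg_span (Set.finite_range rel))

/-- Lifting along square-zero ideals gives smoothness. -/
theorem smooth_zeroAlg [Finite σ] [Finite κ]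
    (H : ∀ (A : Type u) [CommRing A] [Algebra R A] (I : Ideal A), I ^ 2 = ⊥ → ∀ x : σ → A,
      (∀ r, MvPolynomial.aeval x (rel r) ∈ I) →
        ∃ y : σ → A, (∀ s, y s - x s ∈ I) ∧ ∀ r, MvPolynomial.aeval y (rel r) = 0) :
    (algebraMap R (ZeroAlg rel)).Smooth := by
  rw [RingHom.smooth_algebraMap]
  refine ⟨?_, zeroAlg_finitePresentation rel⟩
  refine Algebra.FormallySmooth.of_comp_surjective fun A _ _ I hI f => ?_
  choose x hx using fun s => Ideal.Quotient.mk_surjective (I := I) ((zeroAlgEquiv rel (A ⧸ I) f).1 s)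
  have hx' : ∀ p : MvPolynomial σ R, Ideal.Quotient.mk I (MvPolynomial.aeval x p) =
      MvPolynomial.aeval (R := R) (zeroAlgEquiv rel (A ⧸ I) f).1 p := by
    intro p
    rw [← Ideal.Quotient.mkₐ_eq_mk R, ← AlgHom.comp_apply]
    congr 1
    exact MvPolynomial.algHom_ext fun s => by simp [hx]
  obtain ⟨y, hy, hy0⟩ := H A I hI x fun r => Ideal.Quotient.eq_zero_iff_mem.mp (by
    rw [hx']; exact (zeroAlgEquiv rel (A ⧸ I) f).2 r)
  refine ⟨(zeroAlgEquiv rel A).symm ⟨y, hy0⟩, (zeroAlgEquiv rel (A ⧸ I)).injective (Subtype.ext (funext fun s => ?_))⟩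
  rw [zeroAlgEquiv_natural, Equiv.apply_symm_apply]
  show Ideal.Quotient.mk I (y s) = _
  rw [← hx s, Ideal.Quotient.eq]
  exact hy s

end Zeros

variable {R : Type u} [CommRing R] {n : ℕ} (U : Matrix (Fin n) (Fin n) R)

/-- The generic matrix. -/
noncomputable def genMat : Matrix (Fin n) (Fin n) (MvPolynomial (Fin n × Fin n) R) :=
  Matrix.of fun i j => MvPolynomial.X (i, j)

/-- The equations of the orthogonal group. -/
noncomputable def orthRel : Sym2 (Fin n) → MvPolynomial (Fin n × Fin n) R :=
  uCoeff (genMatᵀ * U.map MvPolynomial.C * genMat - U.map MvPolynomial.C)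

/-- The equations of the naive special orthogonal group. -/
noncomputable def sorth'Rel : Option (Sym2 (Fin n)) → MvPolynomial (Fin n × Fin n) R
  | none => genMat.det - 1
  | some z => orthRel U z

theorem aeval_orthRel {A : Type u} [CommRing A] [Algebra R A] (g : Fin n × Fin n → A) (z : Sym2 (Fin n)) :
    MvPolynomial.aeval g (orthRel U z) =
      uCoeff ((Matrix.of fun i j => g (i, j))ᵀ * U.map (algebraMap R A) * (Matrix.of fun i j => g (i, j)) -
        U.map (algebraMap R A)) z := by
  let f := (MvPolynomial.aeval (R := R) g).toRingHom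
  have h1 : (genMat (R := R) (n := n)).map f = Matrix.of fun i j => g (i, j) := by
    ext i j; simp [genMat, f]
  have h2 : (U.map MvPolynomial.C).map f = U.map (algebraMap R A) := by
    ext i j; simp [f]
  have h3 : ∀ D : Matrix (Fin n) (Fin n) (MvPolynomial (Fin n × Fin n) R), f (uCoeff D z) = uCoeff (D.map f) z := by
    intro D
    induction z using Sym2.ind with
    | h i j => by_cases h : i = j <;> simp [uCoeff, h]
  show f _ = _
  rw [orthRel, h3, Matrix.map_sub _ (map_sub f), Matrix.map_mul, Matrix.map_mul, Matrix.transpose_map, h1, h2]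

theorem forall_orthRel_iff {A : Type u} [CommRing A] [Algebra R A] (g : Fin n × Fin n → A) :
    (∀ z, MvPolynomial.aeval g (orthRel U z) = 0) ↔
      IsOrthMat (U.map (algebraMap R A)) (Matrix.of fun i j => g (i, j)) := by
  rw [IsOrthMat, isAltMat_iff, funext_iff]
  simp only [aeval_orthRel, Pi.zero_apply]

theorem aeval_det {A : Type u} [CommRing A] [Algebra R A] (g : Fin n × Fin n → A) :
    MvPolynomial.aeval g ((genMat (R := R) (n := n)).det) = (Matrix.of fun i j => g (i, j)).det := by
  rw [AlgHom.map_det]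
  congr 1
  ext i j; simp [genMat]

/-- Points of the orthogonal algebra. -/
noncomputable def orthAlgEquiv (A : Type u) [CommRing A] [Algebra R A] :
    (ZeroAlg (orthRel U) →ₐ[R] A) ≃ {g : Matrix (Fin n) (Fin n) A // IsOrthMat (U.map (algebraMap R A)) g} :=
  (zeroAlgEquiv (orthRel U) A).trans
    { toFun := fun x => ⟨Matrix.of fun i j => x.1 (i, j), (forall_orthRel_iff U x.1).mp x.2⟩
      invFun := fun g => ⟨fun p => g.1 p.1 p.2, (forall_orthRel_iff U _).mpr g.2⟩
      left_inv := fun _ => rfl
      right_inv := fun _ => rfl }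

/-- Points of the naive special orthogonal algebra. -/
noncomputable def sorth'AlgEquiv (A : Type u) [CommRing A] [Algebra R A] :
    (ZeroAlg (sorth'Rel U) →ₐ[R] A) ≃
      {g : Matrix (Fin n) (Fin n) A // IsOrthMat (U.map (algebraMap R A)) g ∧ g.det = 1} :=
  (zeroAlgEquiv (sorth'Rel U) A).trans
    { toFun := fun x => ⟨Matrix.of fun i j => x.1 (i, j), (forall_orthRel_iff U x.1).mp fun z => x.2 (some z), by
        have := x.2 none
        rw [sorth'Rel, map_sub, map_one, aeval_det, sub_eq_zero] at this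
        exact this⟩
      invFun := fun g => ⟨fun p => g.1 p.1 p.2, fun r => by
        rcases r with _ | z
        · rw [sorth'Rel, map_sub, map_one, aeval_det, sub_eq_zero]; exact g.2.2
        · exact (forall_orthRel_iff U (fun p => g.1 p.1 p.2)).mpr g.2.1 z⟩
      left_inv := fun _ => rfl
      right_inv := fun _ => rfl }

theorem toMatrix_natural {A B : Type u} [CommRing A] [Algebra R A] [CommRing B] [Algebra R B] (φ : A →ₐ[R] B)
    (gA : (A ⊗[R] (Fin n → R)) →ₗ[A] (A ⊗[R] (Fin n → R)))
    (gB : (B ⊗[R] (Fin n → R)) →ₗ[B] (B ⊗[R] (Fin n → R)))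
    (h : ∀ m : Fin n → R, gB (1 ⊗ₜ[R] m) = LinearMap.rTensor _ φ.toLinearMap (gA (1 ⊗ₜ[R] m))) (i j : Fin n) :
    LinearMap.toMatrix ((Pi.basisFun R (Fin n)).baseChange B) ((Pi.basisFun R (Fin n)).baseChange B) gB i j =
      φ (LinearMap.toMatrix ((Pi.basisFun R (Fin n)).baseChange A) ((Pi.basisFun R (Fin n)).baseChange A) gA i j) := by
  rw [LinearMap.toMatrix_apply, LinearMap.toMatrix_apply, Module.Basis.baseChange_apply,
    Module.Basis.baseChange_apply, h, repr_rTensor]

variable {Q : QuadraticForm R (Fin n → R)}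
  (hQ : QuadGrp.IsNondeg (Pi.basisFun R (Fin n)) (LinearEquiv.refl R R) Q)
  {G : Over (Spec (CommRingCat.of R))} [GrpObj G]

/-- A representing scheme of `O(Q)` has the points of the orthogonal algebra. -/
noncomputable def orthPointsEquiv (D : QuadGrp.OrthRep Q G) : PointsEquiv G (ZeroAlg (orthRel (qMat Q))) where
  toHom A _ _ := (D.pts A).toEquiv.trans ((orthEquiv Q hQ A).trans (orthAlgEquiv (qMat Q) A).symm)
  natural A B _ _ _ _ φ y := by
    refine (zeroAlgEquiv (orthRel (qMat Q)) B).injective (Subtype.ext (funext fun p => ?_))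
    rw [zeroAlgEquiv_natural]
    simp only [Equiv.trans_apply, orthAlgEquiv, Equiv.symm_trans_apply, Equiv.apply_symm_apply]
    exact toMatrix_natural φ _ _ (D.natural A B φ y) p.1 p.2

/-- A representing scheme of `SO'(Q)` has the points of the naive special orthogonal algebra. -/
noncomputable def sorth'PointsEquiv (D : QuadGrp.SOrth'Rep Q G) : PointsEquiv G (ZeroAlg (sorth'Rel (qMat Q))) where
  toHom A _ _ := (D.pts A).toEquiv.trans ((sorth'Equiv Q hQ A).trans (sorth'AlgEquiv (qMat Q) A).symm)
  natural A B _ _ _ _ φ y := by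
    refine (zeroAlgEquiv (sorth'Rel (qMat Q)) B).injective (Subtype.ext (funext fun p => ?_))
    rw [zeroAlgEquiv_natural]
    simp only [Equiv.trans_apply, sorth'AlgEquiv, Equiv.symm_trans_apply, Equiv.apply_symm_apply]
    exact toMatrix_natural φ _ _ (D.natural A B φ y) p.1 p.2

end QuadSch
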