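import Groth.Agent.QuadSch.CliffBC
import Groth.Agent.QuadSch.OrthAlg
import Groth.Agent.QuadSch.Yoneda

/-!
The Clifford group functor is given by finitely many equations, and smoothness follows from lifting of points.
-/

universe u

open TensorProduct CliffordAlgebra QuadCliff AlgebraicGeometry CategoryTheory

namespace QuadSch

section Equations

variable {R : Type u} [CommRing R] {σ κ : Type}

/-- Equations natural in the algebra. -/
structure EqSys (R : Type u) [CommRing R] (σ κ : Type) where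
  val : ∀ (A : Type u) [CommRing A] [Algebra R A], (σ → A) → κ → A
  natural : ∀ {A B : Type u} [CommRing A] [Algebra R A] [CommRing B] [Algebra R B] (φ : A →ₐ[R] B) (x : σ → A) (r : κ),
    φ (val A x r) = val B (fun s => φ (x s)) r

namespace EqSys

variable (E : EqSys R σ κ)

/-- The polynomials of a system. -/
noncomputable def rel : κ → MvPolynomial σ R := E.val (MvPolynomial σ R) MvPolynomial.X

theorem aeval_rel {A : Type u} [CommRing A] [Algebra R A] (x : σ → A) (r : κ) :
    MvPolynomial.aeval x (E.rel r) = E.val A x r := by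
  rw [rel, E.natural]
  simp

/-- Points of the algebra of a system. -/
noncomputable def pointsEquiv (A : Type u) [CommRing A] [Algebra R A] :
    (ZeroAlg E.rel →ₐ[R] A) ≃ {x : σ → A // ∀ r, E.val A x r = 0} :=
  (zeroAlgEquiv E.rel A).trans (Equiv.subtypeEquivRight fun x => by simp only [E.aeval_rel])

theorem pointsEquiv_natural {A B : Type u} [CommRing A] [Algebra R A] [CommRing B] [Algebra R B]
    (φ : A →ₐ[R] B) (f : ZeroAlg E.rel →ₐ[R] A) (s : σ) :
    (E.pointsEquiv B (φ.comp f)).1 s = φ ((E.pointsEquiv A f).1 s) := rfl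

end EqSys

end Equations

section GPin

variable {R : Type u} [CommRing R] {M : Type u} [AddCommGroup M] [Module R M] [Module.Free R M]
  (Q : QuadraticForm R M) {n : ℕ} (b : Module.Basis (Fin n) R M) {ι' : Type} [Fintype ι']
  (c : Module.Basis ι' R (CliffordAlgebra Q))

/-- The variables. -/
abbrev GPinVar (n : ℕ) (ι' : Type) : Type := (ι' ⊕ ι') ⊕ (Unit ⊕ ((Fin n × Fin n) ⊕ (Fin n × Fin n)))

/-- The equations. -/
abbrev GPinEq (n : ℕ) (ι' : Type) : Type :=
  ((ι' ⊕ ι') ⊕ (ι' ⊕ ι')) ⊕ (Unit ⊕ (((Fin n × Fin n) ⊕ (Fin n × Fin n)) ⊕ (Fin n × ι')))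

section Parts

variable {Q} {A : Type u} [CommRing A] [Algebra R A] (x : GPinVar n ι' → A)

/-- The unit. -/
noncomputable def gX : CliffordAlgebra (QuadGrp.baseChangeForm A Q) :=
  ∑ a, x (.inl (.inl a)) • bcBasis Q c A a

/-- The inverse. -/
noncomputable def gY : CliffordAlgebra (QuadGrp.baseChangeForm A Q) :=
  ∑ a, x (.inl (.inr a)) • bcBasis Q c A a

/-- The idempotent. -/
def gE : A := x (.inr (.inl ()))

/-- The matrix of the conjugation. -/
def gG : Matrix (Fin n) (Fin n) A := Matrix.of fun i j => x (.inr (.inr (.inl (i, j))))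

/-- Its inverse. -/
def gH : Matrix (Fin n) (Fin n) A := Matrix.of fun i j => x (.inr (.inr (.inr (i, j))))

/-- The defect of the conjugation relation. -/
noncomputable def gL (j : Fin n) : CliffordAlgebra (QuadGrp.baseChangeForm A Q) :=
  gX c x * ι _ (b.baseChange A j) - ι _ (∑ i, gG x i j • b.baseChange A i) * gX c x

variable {B : Type u} [CommRing B] [Algebra R B] (φ : A →ₐ[R] B)

theorem mapBC_gX : mapBC Q φ (gX c x) = gX c (fun s => φ (x s)) := by
  simp only [gX, map_sum, mapBC_smul, bcBasis_apply, mapBC_toBC]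

theorem mapBC_gY : mapBC Q φ (gY c x) = gY c (fun s => φ (x s)) := by
  simp only [gY, map_sum, mapBC_smul, bcBasis_apply, mapBC_toBC]

theorem rTensor_basis (i : Fin n) :
    LinearMap.rTensor M φ.toLinearMap (b.baseChange A i) = b.baseChange B i := by
  simp

theorem mapBC_gL (j : Fin n) : mapBC Q φ (gL b c x j) = gL b c (fun s => φ (x s)) j := by
  simp only [gL, map_sub, map_mul, mapBC_gX, mapBC_ι, rTensor_basis, map_sum, map_smul, mapBC_smul]
  rfl

end Parts

/-- The values of the equations. -/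
noncomputable def gVal (A : Type u) [CommRing A] [Algebra R A] (x : GPinVar n ι' → A) : GPinEq n ι' → A
  | .inl (.inl (.inl a)) => (bcBasis Q c A).repr (gX c x * gY c x - 1) a
  | .inl (.inl (.inr a)) => (bcBasis Q c A).repr (gY c x * gX c x - 1) a
  | .inl (.inr (.inl a)) => (bcBasis Q c A).repr (gE x • par (QuadGrp.baseChangeForm A Q) 1 (gX c x)) a
  | .inl (.inr (.inr a)) => (bcBasis Q c A).repr ((1 - gE x) • par (QuadGrp.baseChangeForm A Q) 0 (gX c x)) a
  | .inr (.inl _) => gE x * gE x - gE x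
  | .inr (.inr (.inl (.inl p))) => (gG x * gH x - 1) p.1 p.2
  | .inr (.inr (.inl (.inr p))) => (gH x * gG x - 1) p.1 p.2
  | .inr (.inr (.inr p)) => (bcBasis Q c A).repr (gL b c x p.1) p.2

/-- The system of equations of the Clifford group. -/
noncomputable def gpinSys : EqSys R (GPinVar n ι') (GPinEq n ι') where
  val := gVal Q b c
  natural {A B} _ _ _ _ φ x r := by
    have hG : ∀ i j, φ (gG x i j) = gG (fun s => φ (x s)) i j := fun _ _ => rfl
    have hH : ∀ i j, φ (gH x i j) = gH (fun s => φ (x s)) i j := fun _ _ => rfl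
    have hE : φ (gE x) = gE (fun s => φ (x s)) := rfl
    rcases r with ((a | a) | (a | a)) | (_ | (p | p) | p) <;> simp only [gVal]
    all_goals try rw [← repr_mapBC]
    all_goals first
      | (simp only [map_sub, map_mul, map_one, mapBC_gX, mapBC_gY, mapBC_smul, mapBC_par, mapBC_gL, hE]; done)
      | simp only [Matrix.sub_apply, Matrix.mul_apply, Matrix.one_apply, map_sub, map_sum, map_mul, hG, hH, hE,
          apply_ite φ, map_one, map_zero]

/-- The points of the system. -/
abbrev GPinSol (A : Type u) [CommRing A] [Algebra R A] : Type u :=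
  {x : GPinVar n ι' → A // ∀ r, (gpinSys Q b c).val A x r = 0}

variable {A : Type u} [CommRing A] [Algebra R A]

theorem sol_spec (x : GPinSol Q b c A) :
    gX c x.1 * gY c x.1 = 1 ∧ gY c x.1 * gX c x.1 = 1 ∧ gE x.1 * gE x.1 = gE x.1 ∧
      gE x.1 • par (QuadGrp.baseChangeForm A Q) 1 (gX c x.1) = 0 ∧
      (1 - gE x.1) • par (QuadGrp.baseChangeForm A Q) 0 (gX c x.1) = 0 ∧
      gG x.1 * gH x.1 = 1 ∧ gH x.1 * gG x.1 = 1 ∧ ∀ j, gL b c x.1 j = 0 := by
  have key : ∀ y : CliffordAlgebra (QuadGrp.baseChangeForm A Q), (∀ a, (bcBasis Q c A).repr y a = 0) → y = 0 :=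
    fun y h => (bcBasis Q c A).repr.map_eq_zero_iff.mp (Finsupp.ext h)
  have h := x.2
  refine ⟨sub_eq_zero.mp (key _ fun a => h (.inl (.inl (.inl a)))),
    sub_eq_zero.mp (key _ fun a => h (.inl (.inl (.inr a)))),
    sub_eq_zero.mp (h (.inr (.inl ()))),
    key _ fun a => h (.inl (.inr (.inl a))), key _ fun a => h (.inl (.inr (.inr a))),
    sub_eq_zero.mp (Matrix.ext fun i j => h (.inr (.inr (.inl (.inl (i, j)))))),
    sub_eq_zero.mp (Matrix.ext fun i j => h (.inr (.inr (.inl (.inr (i, j)))))),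
    fun j => key _ fun a => h (.inr (.inr (.inr (j, a))))⟩

/-- The unit of a solution. -/
noncomputable def solUnit (x : GPinSol Q b c A) : (CliffordAlgebra (QuadGrp.baseChangeForm A Q))ˣ :=
  ⟨gX c x.1, gY c x.1, (sol_spec Q b c x).1, (sol_spec Q b c x).2.1⟩

theorem solUnit_mem (x : GPinSol Q b c A) : solUnit Q b c x ∈ QuadGrp.gpin Q A := by
  obtain ⟨-, -, he, h1, h0, hgh, hhg, hL⟩ := sol_spec Q b c x
  let g : (A ⊗[R] M) ≃ₗ[A] (A ⊗[R] M) := LinearEquiv.ofLinearMap
    (Matrix.toLin (b.baseChange A) (b.baseChange A) (gG x.1)) (Matrix.toLin (b.baseChange A) (b.baseChange A) (gH x.1))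
    (by rw [← Matrix.toLin_mul, hgh, Matrix.toLin_one]) (by rw [← Matrix.toLin_mul, hhg, Matrix.toLin_one])
  refine ⟨QuadCliff.mem_GPin'_of_conj g ?_, ⟨gE x.1, he, ?_, ?_⟩⟩
  · have h : (LinearMap.mulLeft A (gX c x.1)).comp (ι (QuadGrp.baseChangeForm A Q)) =
        (LinearMap.mulRight A (gX c x.1)).comp ((ι (QuadGrp.baseChangeForm A Q)).comp g.toLinearMap) := by
      refine (b.baseChange A).ext fun j => ?_
      show gX c x.1 * ι _ (b.baseChange A j) = ι _ (Matrix.toLin (b.baseChange A) (b.baseChange A) (gG x.1) _) * gX c x.1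
      rw [Matrix.toLin_self]
      exact sub_eq_zero.mp (hL j)
    exact fun v => LinearMap.congr_fun h v
  · show gE x.1 • gX c x.1 ∈ _
    rw [← par_add_par _ (gX c x.1), smul_add, h1, add_zero]
    exact Submodule.smul_mem _ _ (par_mem _ 0 _)
  · show (1 - gE x.1) • gX c x.1 ∈ _
    rw [← par_add_par _ (gX c x.1), smul_add, h0, zero_add]
    exact Submodule.smul_mem _ _ (par_mem _ 1 _)

/-- A solution is determined by its unit. -/
theorem sol_ext {x y : GPinSol Q b c A} (h : gX c x.1 = gX c y.1) : x = y := by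
  have hX : ∀ a, x.1 (.inl (.inl a)) = y.1 (.inl (.inl a)) := fun a => by
    have e := congrArg (fun z => (bcBasis Q c A).repr z a) h
    simp only [gX, Module.Basis.repr_sum_self] at e
    exact e
  obtain ⟨x1, x2, xe, xp1, xp0, xgh, xhg, xL⟩ := sol_spec Q b c x
  obtain ⟨y1, y2, ye, yp1, yp0, ygh, yhg, yL⟩ := sol_spec Q b c y
  have hY : gY c x.1 = gY c y.1 := left_inv_eq_right_inv x2 (h ▸ y1)
  have hinj : ∀ r : A, r • gX c x.1 = 0 → r = 0 := fun r hr => by
    refine QuadCliff.algebraMap_injective (b.baseChange A) (Q := QuadGrp.baseChangeForm A Q) ?_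
    rw [map_zero, Algebra.algebraMap_eq_smul_one, ← x1, ← smul_mul_assoc, hr, zero_mul]
  have hzero : ∀ e f : A, e • par (QuadGrp.baseChangeForm A Q) 1 (gX c x.1) = 0 →
      (1 - f) • par (QuadGrp.baseChangeForm A Q) 0 (gX c x.1) = 0 → e * (1 - f) = 0 := by
    intro e f he hf
    refine hinj _ ?_
    rw [← par_add_par _ (gX c x.1), smul_add, mul_smul, hf, smul_zero, zero_add, mul_comm, mul_smul, he, smul_zero]
  have hE : gE x.1 = gE y.1 := by
    linear_combination hzero (gE x.1) (gE y.1) xp1 (h ▸ yp0) - hzero (gE y.1) (gE x.1) (h ▸ yp1) xp0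
  have hu : IsUnit (gX c x.1) := ⟨⟨_, _, x1, x2⟩, rfl⟩
  have hG : gG x.1 = gG y.1 := by
    refine Matrix.ext fun i j => ?_
    have e : ι (QuadGrp.baseChangeForm A Q) (∑ i, gG x.1 i j • b.baseChange A i) * gX c x.1 =
        ι (QuadGrp.baseChangeForm A Q) (∑ i, gG y.1 i j • b.baseChange A i) * gX c x.1 := by
      rw [← sub_eq_zero.mp (xL j)]
      conv_rhs => rw [h, ← sub_eq_zero.mp (yL j), ← h]
    have e' := congrArg (fun v => (b.baseChange A).repr v i)
      (QuadCliff.ι_injective (b.baseChange A) (hu.mul_right_cancel e))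
    simp only [Module.Basis.repr_sum_self] at e'
    exact e'
  have hH : gH x.1 = gH y.1 := left_inv_eq_right_inv xhg (hG ▸ ygh)
  refine Subtype.ext (funext fun s => ?_)
  rcases s with (a | a) | (_ | ⟨i, j⟩ | ⟨i, j⟩)
  · exact hX a
  · have e := congrArg (fun z => (bcBasis Q c A).repr z a) hY
    simp only [gY, Module.Basis.repr_sum_self] at e
    exact e
  · exact hE
  · exact congrFun (congrFun hG i) j
  · exact congrFun (congrFun hH i) j

theorem exists_sol (u : ↥(QuadGrp.gpin Q A)) : ∃ x : GPinSol Q b c A, gX c x.1 = (u.1 : CliffordAlgebra _) := by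
  obtain ⟨g, -, hg⟩ := QuadCliff.exists_isometry_of_mem_GPin' (b.baseChange A) u.2.1
  obtain ⟨e, he, h0, h1⟩ := u.2.2
  let G := LinearMap.toMatrix (b.baseChange A) (b.baseChange A) g.toLinearMap
  let H := LinearMap.toMatrix (b.baseChange A) (b.baseChange A) g.symm.toLinearMap
  let x : GPinVar n ι' → A := Sum.elim
    (Sum.elim (fun a => (bcBasis Q c A).repr (u.1 : CliffordAlgebra _) a)
      (fun a => (bcBasis Q c A).repr (↑(u.1)⁻¹ : CliffordAlgebra _) a))
    (Sum.elim (fun _ => e) (Sum.elim (fun p => G p.1 p.2) fun p => H p.1 p.2))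
  have hX : gX c x = (u.1 : CliffordAlgebra _) := (bcBasis Q c A).sum_repr _
  have hY : gY c x = (↑(u.1)⁻¹ : CliffordAlgebra _) := (bcBasis Q c A).sum_repr _
  have hGG : gG x = G := rfl
  have hHH : gH x = H := rfl
  have hEE : gE x = e := rfl
  have he1 : e • par (QuadGrp.baseChangeForm A Q) 1 (u.1 : CliffordAlgebra _) = 0 := by
    rw [← map_smul, par_eq_zero h0 (by decide)]
  have he0 : (1 - e) • par (QuadGrp.baseChangeForm A Q) 0 (u.1 : CliffordAlgebra _) = 0 := by
    rw [← map_smul, par_eq_zero h1 (by decide)]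
  have hL : ∀ j, gL b c x j = 0 := fun j => by
    have hs : ∑ i, gG x i j • b.baseChange A i = g (b.baseChange A j) := by
      rw [hGG, ← Matrix.toLin_self (b.baseChange A) (b.baseChange A) G j, Matrix.toLin_toMatrix]
      rfl
    rw [gL, hs, hX, hg, sub_self]
  refine ⟨⟨x, fun r => ?_⟩, hX⟩
  rcases r with ((a | a) | (a | a)) | (_ | (p | p) | p) <;> simp only [gpinSys, gVal]
  · rw [hX, hY, Units.mul_inv, sub_self, map_zero, Finsupp.zero_apply]
  · rw [hX, hY, Units.inv_mul, sub_self, map_zero, Finsupp.zero_apply]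
  · rw [hX, hEE, he1, map_zero, Finsupp.zero_apply]
  · rw [hX, hEE, he0, map_zero, Finsupp.zero_apply]
  · rw [hEE, he.eq, sub_self]
  · rw [hGG, hHH, ← LinearMap.toMatrix_comp, LinearEquiv.comp_symm,
      LinearMap.toMatrix_id, sub_self, Matrix.zero_apply]
  · rw [hGG, hHH, ← LinearMap.toMatrix_comp, LinearEquiv.symm_comp,
      LinearMap.toMatrix_id, sub_self, Matrix.zero_apply]
  · rw [hL, map_zero, Finsupp.zero_apply]

/-- Solutions are the Clifford group. -/
noncomputable def gpinSolEquiv : ↥(QuadGrp.gpin Q A) ≃ GPinSol Q b c A where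
  toFun u := (exists_sol Q b c u).choose
  invFun x := ⟨solUnit Q b c x, solUnit_mem Q b c x⟩
  left_inv u := Subtype.ext (Units.ext (exists_sol Q b c u).choose_spec)
  right_inv x := sol_ext Q b c (exists_sol Q b c ⟨solUnit Q b c x, solUnit_mem Q b c x⟩).choose_spec

variable {Q} {G : Over (Spec (CommRingCat.of R))} [GrpObj G]

open MonObj in
/-- A representing scheme of `GPin(Q)` has the points of a finitely presented algebra. -/
noncomputable def gpinPointsEquiv (D : QuadGrp.GPinRep Q G) : PointsEquiv G (ZeroAlg (gpinSys Q b c).rel) where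
  toHom A _ _ := (D.pts A).toEquiv.trans ((gpinSolEquiv Q b c).trans ((gpinSys Q b c).pointsEquiv A).symm)
  natural A B _ _ _ _ φ y := by
    refine ((gpinSys Q b c).pointsEquiv B).injective ?_
    simp only [Equiv.trans_apply, Equiv.apply_symm_apply]
    have key : ∀ f : ZeroAlg (gpinSys Q b c).rel →ₐ[R] A,
        gX c ((gpinSys Q b c).pointsEquiv B (φ.comp f)).1 = mapBC Q φ (gX c ((gpinSys Q b c).pointsEquiv A f).1) :=
      fun f => by rw [mapBC_gX]; rfl
    refine sol_ext Q b c ?_
    rw [key, Equiv.apply_symm_apply]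
    refine (exists_sol Q b c _).choose_spec.trans ?_
    show _ = mapBC Q φ (gX c (gpinSolEquiv Q b c (D.pts A y)).1)
    rw [show gX c (gpinSolEquiv Q b c (D.pts A y)).1 = _ from (exists_sol Q b c _).choose_spec]
    exact D.natural A B φ (mapBC Q φ) (mapBC_ι Q φ) (mapBC_algebraMap Q φ) y

end GPin

section Criterion

variable {R : Type u} [CommRing R] {X : Over (Spec (CommRingCat.of R))} {S : Type u} [CommRing S] [Algebra R S]

/-- Smoothness from the lifting of points. -/
theorem PointsEquiv.smooth_of_lift (P : PointsEquiv X S) [Algebra.FinitePresentation R S]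
    (H : ∀ (A : Type u) [CommRing A] [Algebra R A] (I : Ideal A), I ^ 2 = ⊥ →
      ∀ y : QuadGrp.specOver R (A ⧸ I) ⟶ X,
        ∃ z : QuadGrp.specOver R A ⟶ X, QuadGrp.specOverMap R (Ideal.Quotient.mkₐ R I) ≫ z = y) :
    AlgebraicGeometry.Smooth X.hom := by
  rw [P.smooth_iff, RingHom.smooth_algebraMap]
  refine ⟨Algebra.FormallySmooth.of_comp_surjective fun A _ _ I hI f => ?_, inferInstance⟩
  obtain ⟨z, hz⟩ := H A I hI ((P.toHom (A ⧸ I)).symm f)
  refine ⟨P.toHom A z, ?_⟩
  rw [← P.natural, hz, Equiv.apply_symm_apply]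

end Criterion

end QuadSch
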