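import Groth.Agent.QuadSch.Lift
import Groth.Agent.QuadSch.OrthAlg
import Groth.Agent.QuadSch.Yoneda

/-!
Smoothness of orthogonal group schemes of non-degenerate quadratic forms on free modules.
-/

universe u

open AlgebraicGeometry QuadGrp Matrix QuadGrpLib

namespace QuadSch

variable {R : Type u} [CommRing R] {n : ℕ} {U : Matrix (Fin n) (Fin n) R}

theorem isUnit_polar_det (hU' : (Even n → IsUnit (U + Uᵀ).det) ∧ (Odd n → IsUnit (hU U)))
    (h : Even n ∨ IsUnit (2 : R)) {A : Type u} [CommRing A] (f : R →+* A) :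
    IsUnit (U.map f + (U.map f)ᵀ).det := by
  rcases Nat.even_or_odd n with he | ho
  · exact (map_nondeg f hU').1 he
  · have h2 : IsUnit (2 : R) := h.resolve_left (Nat.not_even_iff_odd.mpr ho)
    rw [← QuadGrpLib.two_mul_hU ho]
    exact (by simpa only [map_ofNat] using h2.map f : IsUnit (2 : A)).mul ((map_nondeg f hU').2 ho)

theorem smooth_orthAlg (hU' : (Even n → IsUnit (U + Uᵀ).det) ∧ (Odd n → IsUnit (hU U)))
    (h : Even n ∨ IsUnit (2 : R)) : (algebraMap R (ZeroAlg (orthRel U))).Smooth := by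
  refine smooth_zeroAlg _ fun A _ _ I hI x hx => ?_
  simp only [aeval_orthRel] at hx
  obtain ⟨Y, hY, ho⟩ := exists_orth_lift hI (isUnit_polar_det hU' h (algebraMap R A)) hx
  refine ⟨fun p => ((Matrix.of fun i j => x (i, j)) * (1 + Y)) p.1 p.2, fun p => ?_, (forall_orthRel_iff U _).mpr ho⟩
  exact mul_one_add_sub_mem (g := Matrix.of fun i j => x (i, j)) hY p.1 p.2

theorem smooth_sorth'Alg (hU' : (Even n → IsUnit (U + Uᵀ).det) ∧ (Odd n → IsUnit (hU U)))
    (h : Odd n ∨ IsUnit (2 : R)) : (algebraMap R (ZeroAlg (sorth'Rel U))).Smooth := by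
  refine smooth_zeroAlg _ fun A _ _ I hI x hx => ?_
  have hg := fun z => hx (some z)
  have hd := hx none
  simp only [sorth'Rel, aeval_orthRel] at hg
  simp only [sorth'Rel, map_sub, map_one, aeval_det] at hd
  obtain ⟨Y, hY, ho, h1⟩ : ∃ Y, MatIn I Y ∧
      IsOrthMat (U.map (algebraMap R A)) ((Matrix.of fun i j => x (i, j)) * (1 + Y)) ∧
      ((Matrix.of fun i j => x (i, j)) * (1 + Y)).det = 1 := by
    rcases Nat.even_or_odd n with he | hodd
    · have h2 : IsUnit (2 : R) := h.resolve_left (Nat.not_odd_iff_even.mpr he)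
      have h2' : IsUnit (2 : A) := by simpa only [map_ofNat] using h2.map (algebraMap R A)
      obtain ⟨Y, hY, ho⟩ := exists_orth_lift hI (isUnit_polar_det hU' (Or.inl he) (algebraMap R A)) hg
      refine ⟨Y, hY, ho, det_eq_one_of_two hI h2' (ho.isUnit_det (map_nondeg _ hU').1 (map_nondeg _ hU').2) ?_⟩
      rw [Matrix.det_mul, det_one_add hI hY, mul_add, mul_one, add_sub_right_comm]
      exact I.add_mem hd (Ideal.mul_mem_left _ _ (I.sum_mem fun i _ => hY i i))
    · exact exists_sorth'_lift hodd hI ((map_nondeg (algebraMap R A) hU').2 hodd) hg hd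
  refine ⟨fun p => ((Matrix.of fun i j => x (i, j)) * (1 + Y)) p.1 p.2, fun p => ?_, ?_⟩
  · exact mul_one_add_sub_mem (g := Matrix.of fun i j => x (i, j)) hY p.1 p.2
  · rintro (_ | z)
    · rw [sorth'Rel, map_sub, map_one, aeval_det, sub_eq_zero]; exact h1
    · rw [sorth'Rel]
      exact (forall_orthRel_iff U (fun p => ((Matrix.of fun i j => x (i, j)) * (1 + Y)) p.1 p.2)).mpr ho z

/-- A square-zero extension over which an orthogonal matrix does not lift. -/
theorem not_formallySmooth_of_test (hU' : (Even n → IsUnit (U + Uᵀ).det) ∧ (Odd n → IsUnit (hU U)))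
    (hn : Odd n) (A : Type u) [CommRing A] [Algebra R A] (t : A) (ht3 : t ^ 3 = 0) (hA2 : (2 : A) = 0)
    (ht2 : t ^ 2 ≠ 0) : ¬Algebra.FormallySmooth R (ZeroAlg (orthRel U)) := by
  intro hs
  obtain ⟨I, hIdef⟩ : ∃ I : Ideal A, I = Ideal.span {t ^ 2} := ⟨_, rfl⟩
  have hI : I ^ 2 = ⊥ := by
    rw [hIdef, Ideal.span_singleton_pow, Ideal.span_singleton_eq_bot, ← pow_mul,
      show 2 * 2 = 3 + 1 from rfl, pow_add, ht3, zero_mul]
  have htI : t ^ 2 ∈ I := hIdef ▸ Ideal.subset_span rfl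
  have hsq : (1 + Ideal.Quotient.mk I t) * (1 + Ideal.Quotient.mk I t) = 1 := by
    have h0 : Ideal.Quotient.mk I (t ^ 2) = 0 := Ideal.Quotient.eq_zero_iff_mem.mpr htI
    have h2 : (2 : A ⧸ I) = 0 := by rw [← map_ofNat (Ideal.Quotient.mk I) 2, hA2, map_zero]
    rw [map_pow] at h0
    linear_combination h0 + (Ideal.Quotient.mk I t) * h2
  have hg0 : IsOrthMat (U.map (algebraMap R (A ⧸ I)))
      ((1 + Ideal.Quotient.mk I t) • (1 : Matrix (Fin n) (Fin n) (A ⧸ I))) := by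
    have : ((1 + Ideal.Quotient.mk I t) • (1 : Matrix (Fin n) (Fin n) (A ⧸ I)))ᵀ *
        U.map (algebraMap R (A ⧸ I)) * ((1 + Ideal.Quotient.mk I t) • 1) - U.map (algebraMap R (A ⧸ I)) = 0 := by
      simp [smul_smul, hsq]
    rw [IsOrthMat, this]
    exact ⟨fun i => rfl, fun i j => by simp⟩
  obtain ⟨φ, hφ⟩ := Algebra.FormallySmooth.comp_surjective R (ZeroAlg (orthRel U)) I hI
    ((orthAlgEquiv U (A ⧸ I)).symm ⟨_, hg0⟩)
  have hgm : (orthAlgEquiv U A φ).1.map (Ideal.Quotient.mk I) =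
      (1 + Ideal.Quotient.mk I t) • (1 : Matrix (Fin n) (Fin n) (A ⧸ I)) := by
    have := congrArg (fun ψ => (orthAlgEquiv U (A ⧸ I) ψ).1) hφ
    simp only [Equiv.apply_symm_apply] at this
    rw [← this]
    refine Matrix.ext fun i j => ?_
    exact (zeroAlgEquiv_natural (orthRel U) (Ideal.Quotient.mkₐ R I) φ (i, j)).symm
  obtain ⟨d, hd⟩ : ∃ d, d = (orthAlgEquiv U A φ).1.det := ⟨_, rfl⟩
  have hd1 : Ideal.Quotient.mk I d = Ideal.Quotient.mk I (1 + t) := by
    rw [hd, RingHom.map_det, RingHom.mapMatrix_apply, hgm, Matrix.det_smul, Matrix.det_one, mul_one,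
      Fintype.card_fin, map_add, map_one]
    obtain ⟨l, rfl⟩ := hn
    rw [pow_succ, pow_mul, sq, hsq, one_pow, one_mul]
  obtain ⟨c, hc⟩ := Ideal.mem_span_singleton.mp (hIdef ▸ Ideal.Quotient.eq.mp hd1)
  have hd2 : d * d = 1 := hd ▸ (orthAlgEquiv U A φ).2.isUnit_det (map_nondeg _ hU').1 (map_nondeg _ hU').2
  refine ht2 ?_
  linear_combination hd2 - (d + 1 + t + t ^ 2 * c) * hc - (t + t ^ 2 * c) * hA2 - (2 * c + t * c ^ 2) * ht3

open Polynomial in
theorem not_smooth_orthAlg (hU' : (Even n → IsUnit (U + Uᵀ).det) ∧ (Odd n → IsUnit (hU U)))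
    (hn : Odd n) (h2 : ¬IsUnit (2 : R)) : ¬(algebraMap R (ZeroAlg (orthRel U))).Smooth := by
  intro hs
  rw [RingHom.smooth_algebraMap] at hs
  obtain ⟨m, hm, h2m⟩ := exists_max_ideal_of_mem_nonunits (mem_nonunits_iff.mpr h2)
  have hk2 : (2 : R ⧸ m) = 0 := by
    have := Ideal.Quotient.eq_zero_iff_mem.mpr h2m
    rwa [map_ofNat] at this
  have : Nontrivial (R ⧸ m) := Ideal.Quotient.nontrivial_iff.mpr hm.ne_top
  refine not_formallySmooth_of_test hU' hn ((R ⧸ m)[X] ⧸ Ideal.span {(X : (R ⧸ m)[X]) ^ 3})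
    (Ideal.Quotient.mk _ X) ?_ ?_ ?_ hs.formallySmooth
  · rw [← map_pow]; exact Ideal.Quotient.eq_zero_iff_mem.mpr (Ideal.subset_span rfl)
  · rw [← map_ofNat (Ideal.Quotient.mk (Ideal.span {(X : (R ⧸ m)[X]) ^ 3})) 2, ← Polynomial.C_ofNat, hk2,
      map_zero, map_zero]
  · rw [← map_pow, Ne, Ideal.Quotient.eq_zero_iff_mem, Ideal.mem_span_singleton]
    intro h
    have := Polynomial.X_pow_dvd_iff.mp h 2 (by norm_num)
    simp at this

end QuadSch
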