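import Groth.Agent.QuadGrpL.Glue
import Groth.Agent.QuadGrpL.Pf
import Groth.Agent.QuadCliff.BC
import Groth.Prelude.Def_QuadGrp2
import Mathlib.RingTheory.Smooth.Basic
import Mathlib.RingTheory.FinitePresentation
import Mathlib.Tactic

/-! Matrices of isometries. -/

namespace QuadSch

open Matrix Finset TensorProduct QuadGrpLib

universe u v u'

section Alt

variable {R : Type u} [CommRing R] {n : ℕ}

theorem isAltMat_iff (D : Matrix (Fin n) (Fin n) R) : IsAltMat D ↔ uCoeff D = 0 := by
  constructor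
  · intro h
    funext z
    induction z using Sym2.ind with
    | h i j =>
      by_cases hij : i = j
      · subst hij; simpa [uCoeff] using h.1 i
      · simp [uCoeff, hij, h.2 i j]
  · intro h
    have hd : ∀ i, D i i = 0 := fun i => by simpa [uCoeff] using congrFun h (Sym2.mk i i)
    refine ⟨hd, fun i j => ?_⟩
    by_cases hij : i = j
    · subst hij; simp [hd]
    · have := congrFun h (Sym2.mk i j)
      simp [uCoeff, hij] at this
      exact eq_neg_of_add_eq_zero_right this

theorem isAltMat_add {D E : Matrix (Fin n) (Fin n) R} (hD : IsAltMat D) (hE : IsAltMat E) : IsAltMat (D + E) :=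
  ⟨fun i => by simp [hD.1, hE.1], fun i j => by simp [hD.2 i j, hE.2 i j, add_comm]⟩

theorem isAltMat_neg {D : Matrix (Fin n) (Fin n) R} (hD : IsAltMat D) : IsAltMat (-D) :=
  ⟨fun i => by simp [hD.1], fun i j => by simp [hD.2 i j]⟩

theorem isAltMat_sub {D E : Matrix (Fin n) (Fin n) R} (hD : IsAltMat D) (hE : IsAltMat E) : IsAltMat (D - E) := by
  rw [sub_eq_add_neg]; exact isAltMat_add hD (isAltMat_neg hE)

theorem isAltMat_sub_transpose (X : Matrix (Fin n) (Fin n) R) : IsAltMat (X - Xᵀ) :=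
  ⟨fun i => by simp, fun i j => by simp⟩

theorem uCoeff_sub_eq {U U' : Matrix (Fin n) (Fin n) R} : IsAltMat (U - U') ↔ uCoeff U = uCoeff U' := by
  rw [isAltMat_iff]
  have h : uCoeff (U - U') = uCoeff U - uCoeff U' := by
    funext z
    induction z using Sym2.ind with
    | h i j => by_cases hij : i = j <;> simp [uCoeff, hij]; ring
  rw [h, sub_eq_zero]

theorem hU_eq_of_alt {U U' : Matrix (Fin n) (Fin n) R} (h : IsAltMat (U - U')) : hU U = hU U' := by
  rw [hU, hU, uCoeff_sub_eq.mp h]

theorem add_transpose_eq_of_alt {U U' : Matrix (Fin n) (Fin n) R} (h : IsAltMat (U - U')) :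
    U + Uᵀ = U' + U'ᵀ := by
  ext i j
  have := h.2 i j
  simp only [Matrix.sub_apply, Matrix.add_apply, Matrix.transpose_apply] at this ⊢
  linear_combination this

theorem sum_quad_eq_zero {D : Matrix (Fin n) (Fin n) R} (hD : IsAltMat D) (x : Fin n → R) :
    ∑ a, ∑ c, x a * x c * D a c = 0 := by
  rw [← Finset.sum_product']
  refine Finset.sum_involution (fun p _ => (p.2, p.1)) (fun p _ => ?_) (fun p _ hne h => hne ?_)
    (fun p _ => by simp) (fun p _ => rfl)
  · show x p.1 * x p.2 * D p.1 p.2 + x p.2 * x p.1 * D p.2 p.1 = 0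
    rw [hD.2 p.1 p.2]; ring
  · obtain ⟨a, c⟩ := p
    have : a = c := (congrArg Prod.snd h)
    subst this
    simp [hD.1]

/-- `g` preserves the form of `U`. -/
def IsOrthMat (U g : Matrix (Fin n) (Fin n) R) : Prop := IsAltMat (gᵀ * U * g - U)

theorem IsOrthMat.congr_form {U U' g : Matrix (Fin n) (Fin n) R} (h : IsAltMat (U - U')) :
    IsOrthMat U g ↔ IsOrthMat U' g := by
  have hg : IsAltMat (gᵀ * U * g - U - (gᵀ * U' * g - U')) := by
    have e : gᵀ * U * g - U - (gᵀ * U' * g - U') = gᵀ * (U - U') * g - (U - U') := by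
      rw [Matrix.mul_sub, Matrix.sub_mul]; abel
    rw [e]; exact isAltMat_sub (h.congr g) h
  constructor
  · intro h1; simpa [IsOrthMat] using isAltMat_sub h1 hg
  · intro h1; simpa [IsOrthMat] using isAltMat_add hg h1

theorem IsOrthMat.isUnit_det {U g : Matrix (Fin n) (Fin n) R} (h : IsOrthMat U g)
    (he : Even n → IsUnit (U + Uᵀ).det) (ho : Odd n → IsUnit (hU U)) :
    g.det * g.det = 1 := by
  rcases Nat.even_or_odd n with hn | hn
  · have := add_transpose_eq_of_alt h
    rw [show gᵀ * U * g + (gᵀ * U * g)ᵀ = gᵀ * (U + Uᵀ) * g by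
      simp [Matrix.transpose_mul, Matrix.mul_add, Matrix.add_mul, Matrix.mul_assoc]] at this
    have hd := congrArg Matrix.det this
    rw [Matrix.det_mul, Matrix.det_mul, Matrix.det_transpose] at hd
    refine (he hn).mul_right_cancel ?_
    rw [one_mul, mul_assoc]
    linear_combination hd
  · have hh := hU_eq_of_alt h
    have e := hU_congr hn U gᵀ
    rw [Matrix.transpose_transpose, Matrix.det_transpose] at e
    rw [e] at hh
    refine (ho hn).mul_right_cancel ?_
    rw [one_mul, ← sq]; exact hh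

theorem map_isOrthMat {A : Type u'} [CommRing A] (f : R →+* A) {U g : Matrix (Fin n) (Fin n) R}
    (h : IsOrthMat U g) : IsOrthMat (U.map f) (g.map f) := by
  rw [IsOrthMat, ← Matrix.transpose_map, ← Matrix.map_mul, ← Matrix.map_mul, ← Matrix.map_sub _ (map_sub f)]
  exact ⟨fun i => by rw [Matrix.map_apply, h.1, map_zero], fun i j => by
    rw [Matrix.map_apply, Matrix.map_apply, h.2 i j, map_neg]⟩

end Alt

section Basis

variable {R : Type u} [CommRing R] {M : Type v} [AddCommGroup M] [Module R M] {n : ℕ}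
  (b : Module.Basis (Fin n) R M) (Q : QuadraticForm R M)

theorem mem_O_iff (g : M →ₗ[R] M) {U : Matrix (Fin n) (Fin n) R}
    (hUQ : QuadGrp.coeffs b (LinearEquiv.refl R R) Q = uCoeff U) :
    (∀ x, Q (g x) = Q x) ↔ IsOrthMat U (LinearMap.toMatrix b b g) := by
  obtain ⟨B, hB⟩ := exists_lift b Q
  set U' : Matrix (Fin n) (Fin n) R := Matrix.of fun i j => B (b i) (b j) with hU'
  have halt : IsAltMat (U' - U) := by
    rw [uCoeff_sub_eq, ← hUQ, coeffs_eq_uCoeff b Q B hB]
  rw [← IsOrthMat.congr_form halt, IsOrthMat]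
  have hcomp : (LinearMap.toMatrix b b g)ᵀ * U' * LinearMap.toMatrix b b g =
      Matrix.of fun i j => B (g (b i)) (g (b j)) := by
    rw [bilin_matrix_comp, Matrix.transpose_transpose]
  rw [hcomp]
  subst hB
  constructor
  · intro h
    rw [uCoeff_sub_eq, ← coeffs_eq_uCoeff b _ B rfl]
    have hc : B.toQuadraticMap.comp g = B.toQuadraticMap := by ext x; exact h x
    conv_rhs => rw [← hc]
    rw [coeffs_eq_uCoeff b _ (B.compl₁₂ g g) (by ext x; simp)]
    rfl
  · intro h x
    have h0 := sum_quad_eq_zero h (b.repr x)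
    have e : ∀ B' : LinearMap.BilinMap R M R, B' x x = ∑ a, ∑ c, b.repr x a * b.repr x c * B' (b a) (b c) := by
      intro B'
      conv_lhs => rw [← b.sum_repr x]
      simp only [map_sum, map_smul, LinearMap.sum_apply, LinearMap.smul_apply, smul_eq_mul, Finset.mul_sum]
      refine Finset.sum_comm.trans ?_
      exact Finset.sum_congr rfl fun a _ => Finset.sum_congr rfl fun c _ => by ring
    rw [LinearMap.BilinMap.toQuadraticMap_apply, LinearMap.BilinMap.toQuadraticMap_apply,
      show B (g x) (g x) = (B.compl₁₂ g g) x x from rfl, e, e, ← sub_eq_zero, ← h0]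
    simp only [U', Matrix.sub_apply, Matrix.of_apply, LinearMap.compl₁₂_apply, mul_sub, Finset.sum_sub_distrib]

end Basis

section Points

variable {R : Type u} [CommRing R] {n : ℕ} (Q : QuadraticForm R (Fin n → R))

/-- The chosen matrix of `Q`. -/
noncomputable def qMat : Matrix (Fin n) (Fin n) R := liftMat (Pi.basisFun R (Fin n)) Q

theorem coeffs_qMat :
    QuadGrp.coeffs (Pi.basisFun R (Fin n)) (LinearEquiv.refl R R) Q = uCoeff (qMat Q) := by
  haveI := Module.Free.of_basis (Pi.basisFun R (Fin n))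
  exact coeffs_eq_uCoeff _ Q _ (QuadGrp.bilinLift_spec Q)

theorem coeffs_baseChange (A : Type u') [CommRing A] [Algebra R A] :
    QuadGrp.coeffs ((Pi.basisFun R (Fin n)).baseChange A) (LinearEquiv.refl A A) (QuadGrp.baseChangeForm A Q) =
      uCoeff ((qMat Q).map (algebraMap R A)) := by
  have h := coeffs_qMat Q
  funext z
  induction z using Sym2.ind with
  | h i j =>
    have hz := congrArg (algebraMap R A) (congrFun h (Sym2.mk i j))
    by_cases hij : i = j
    · subst hij
      simpa [QuadGrp.coeffs_mk, uCoeff, QuadCliff.baseChangeForm_one_tmul] using hz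
    · simpa [QuadGrp.coeffs_mk, uCoeff, hij, QuadraticMap.polar, ← TensorProduct.tmul_add,
        QuadCliff.baseChangeForm_one_tmul] using hz

theorem nondeg_qMat (hQ : QuadGrp.IsNondeg (Pi.basisFun R (Fin n)) (LinearEquiv.refl R R) Q) :
    (Even n → IsUnit (qMat Q + (qMat Q)ᵀ).det) ∧ (Odd n → IsUnit (hU (qMat Q))) := by
  have hc := coeffs_qMat Q
  refine ⟨fun he => ?_, fun ho => ?_⟩
  · have h := isUnit_det_polarMat (Pi.basisFun R (Fin n)) Q (hQ.1 he)
    convert h using 2
    ext i j
    by_cases hij : i = j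
    · subst hij
      have := congrFun hc (Sym2.mk i i)
      simp [QuadGrp.coeffs_mk, uCoeff] at this
      simp [polarMat, QuadraticMap.polar_self, two_mul, this]
    · have := congrFun hc (Sym2.mk i j)
      simp [QuadGrp.coeffs_mk, uCoeff, hij] at this
      simp [polarMat, this]
  · have h := hQ.2 ho
    rwa [QuadGrp.IsSemiregular, QuadGrp.halfDisc, hc] at h

theorem map_nondeg {A : Type u'} [CommRing A] (f : R →+* A) {U : Matrix (Fin n) (Fin n) R}
    (h : (Even n → IsUnit (U + Uᵀ).det) ∧ (Odd n → IsUnit (hU U))) :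
    (Even n → IsUnit (U.map f + (U.map f)ᵀ).det) ∧ (Odd n → IsUnit (hU (U.map f))) := by
  refine ⟨fun he => ?_, fun ho => by rw [← map_hU]; exact (h.2 ho).map f⟩
  rw [← Matrix.transpose_map, ← Matrix.map_add _ (map_add f), ← RingHom.mapMatrix_apply, ← RingHom.map_det]
  exact (h.1 he).map f

variable (hQ : QuadGrp.IsNondeg (Pi.basisFun R (Fin n)) (LinearEquiv.refl R R) Q)
  (A : Type u') [CommRing A] [Algebra R A]

include hQ

/-- Points of the orthogonal group are matrices preserving the form. -/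
noncomputable def orthEquiv :
    ↥(QuadGrp.orth Q A) ≃ {g : Matrix (Fin n) (Fin n) A // IsOrthMat ((qMat Q).map (algebraMap R A)) g} where
  toFun g := ⟨LinearMap.toMatrix ((Pi.basisFun R (Fin n)).baseChange A) ((Pi.basisFun R (Fin n)).baseChange A)
      (g.1 : (A ⊗[R] (Fin n → R)) →ₗ[A] (A ⊗[R] (Fin n → R))),
    (mem_O_iff _ _ _ (coeffs_baseChange Q A)).mp fun x => congrArg (AlgebraTensorModule.rid R A A) (g.2 x)⟩
  invFun g := ⟨LinearEquiv.ofLinearMap
      (Matrix.toLin ((Pi.basisFun R (Fin n)).baseChange A) ((Pi.basisFun R (Fin n)).baseChange A) g.1)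
      (Matrix.toLin ((Pi.basisFun R (Fin n)).baseChange A) ((Pi.basisFun R (Fin n)).baseChange A)
        (g.1.det • g.1.adjugate))
      (by rw [← Matrix.toLin_mul, Matrix.mul_smul, Matrix.mul_adjugate, smul_smul,
        g.2.isUnit_det (map_nondeg _ (nondeg_qMat Q hQ)).1 (map_nondeg _ (nondeg_qMat Q hQ)).2, one_smul,
        Matrix.toLin_one])
      (by rw [← Matrix.toLin_mul, Matrix.smul_mul, Matrix.adjugate_mul, smul_smul,
        g.2.isUnit_det (map_nondeg _ (nondeg_qMat Q hQ)).1 (map_nondeg _ (nondeg_qMat Q hQ)).2, one_smul,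
        Matrix.toLin_one]),
    fun x => (AlgebraTensorModule.rid R A A).injective
      ((mem_O_iff _ (QuadGrp.baseChangeForm A Q) _ (coeffs_baseChange Q A)).mpr
        (show IsOrthMat _ (LinearMap.toMatrix _ _ (Matrix.toLin _ _ g.1)) by rw [LinearMap.toMatrix_toLin]; exact g.2) x)⟩
  left_inv g := by
    refine Subtype.ext (LinearEquiv.toLinearMap_injective ?_)
    exact Matrix.toLin_toMatrix _ _ _
  right_inv g := Subtype.ext (LinearMap.toMatrix_toLin _ _ _)

theorem det_orthEquiv (g : ↥(QuadGrp.orth Q A)) :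
    ((orthEquiv Q hQ A g).1).det = LinearMap.det (g.1 : (A ⊗[R] (Fin n → R)) →ₗ[A] (A ⊗[R] (Fin n → R))) :=
  LinearMap.det_toMatrix _ _

/-- Points of the naive special orthogonal group. -/
noncomputable def sorth'Equiv :
    ↥(QuadGrp.sorth' Q A) ≃
      {g : Matrix (Fin n) (Fin n) A // IsOrthMat ((qMat Q).map (algebraMap R A)) g ∧ g.det = 1} where
  toFun g := ⟨(orthEquiv Q hQ A ⟨g.1, g.2.1⟩).1, (orthEquiv Q hQ A ⟨g.1, g.2.1⟩).2, by
    rw [det_orthEquiv Q hQ A]
    show LinearMap.det (g.1 : (A ⊗[R] (Fin n → R)) →ₗ[A] (A ⊗[R] (Fin n → R))) = 1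
    rw [← LinearEquiv.coe_det, MonoidHom.mem_ker.mp g.2.2, Units.val_one]⟩
  invFun g := ⟨((orthEquiv Q hQ A).symm ⟨g.1, g.2.1⟩).1, ((orthEquiv Q hQ A).symm ⟨g.1, g.2.1⟩).2,
    MonoidHom.mem_ker.mpr (Units.ext (by
      rw [LinearEquiv.coe_det, ← det_orthEquiv Q hQ A, Equiv.apply_symm_apply]; exact g.2.2))⟩
  left_inv g := Subtype.ext (congrArg Subtype.val ((orthEquiv Q hQ A).symm_apply_apply ⟨g.1, g.2.1⟩) :)
  right_inv g := Subtype.ext (congrArg Subtype.val ((orthEquiv Q hQ A).apply_symm_apply ⟨g.1, g.2.1⟩) :)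

end Points

theorem repr_rTensor {R : Type u} [CommRing R] {M : Type v} [AddCommGroup M] [Module R M] {ι : Type*}
    (b : Module.Basis ι R M) {A B : Type u'} [CommRing A] [Algebra R A] [CommRing B] [Algebra R B]
    (φ : A →ₐ[R] B) (t : A ⊗[R] M) (i : ι) :
    (b.baseChange B).repr (LinearMap.rTensor M φ.toLinearMap t) i = φ ((b.baseChange A).repr t i) := by
  induction t using TensorProduct.induction_on with
  | zero => simp
  | add x y hx hy => simp only [map_add, Finsupp.add_apply, hx, hy]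
  | tmul a m => simp [Algebra.smul_def]

end QuadSch
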