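import Groth.Agent.QuadCliff.BC
import Groth.Agent.QuadCliff.OddUse
import Groth.Agent.QuadCliff.GPin
import Groth.Agent.QuadSch.Alt
import Mathlib.RingTheory.TensorProduct.Quotient
import Mathlib.LinearAlgebra.TensorProduct.RightExactness

/-!
Functoriality of `A ↦ C(Q_A)`, coordinates, and the parity projections.
-/

universe u v

open TensorProduct CliffordAlgebra QuadCliff

namespace QuadSch

variable {R : Type u} [CommRing R] {M : Type v} [AddCommGroup M] [Module R M] [Module.Free R M]
  (Q : QuadraticForm R M)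

section Equiv

variable (A : Type u) [CommRing A] [Algebra R A]

/-- `A ⊗ C(Q) → C(Q_A)`. -/
noncomputable def tensorToBC : A ⊗[R] CliffordAlgebra Q →ₐ[A] CliffordAlgebra (QuadGrp.baseChangeForm A Q) :=
  Algebra.TensorProduct.lift (Algebra.ofId _ _) (toBC A Q) fun _ _ => Algebra.commutes _ _

@[simp] theorem tensorToBC_tmul (a : A) (x : CliffordAlgebra Q) :
    tensorToBC Q A (a ⊗ₜ x) = a • toBC A Q x := by
  rw [tensorToBC, Algebra.TensorProduct.lift_tmul, Algebra.smul_def]; rfl

theorem fromBC_tensorToBC (t : A ⊗[R] CliffordAlgebra Q) : fromBC A Q (tensorToBC Q A t) = t := by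
  induction t using TensorProduct.induction_on with
  | zero => rw [map_zero, map_zero]
  | add x y hx hy => rw [map_add, map_add, hx, hy]
  | tmul a x => rw [tensorToBC_tmul, map_smul, fromBC_toBC, TensorProduct.smul_tmul', smul_eq_mul, mul_one]

/-- `C(Q_A) ≃ A ⊗ C(Q)`. -/
noncomputable def bcEquiv : CliffordAlgebra (QuadGrp.baseChangeForm A Q) ≃ₐ[A] A ⊗[R] CliffordAlgebra Q :=
  AlgEquiv.ofBijective (fromBC A Q) ⟨fromBC_injective A Q, fun t => ⟨_, fromBC_tensorToBC Q A t⟩⟩

theorem bcEquiv_toBC (x : CliffordAlgebra Q) : bcEquiv Q A (toBC A Q x) = 1 ⊗ₜ[R] x := fromBC_toBC A Q x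

theorem bcEquiv_symm_tmul (a : A) (x : CliffordAlgebra Q) : (bcEquiv Q A).symm (a ⊗ₜ x) = a • toBC A Q x := by
  rw [AlgEquiv.symm_apply_eq, map_smul, bcEquiv_toBC, TensorProduct.smul_tmul', smul_eq_mul, mul_one]

end Equiv

section Map

variable {A B : Type u} [CommRing A] [Algebra R A] [CommRing B] [Algebra R B] (φ : A →ₐ[R] B)

/-- The map `C(Q_A) → C(Q_B)` induced by `φ`. -/
noncomputable def mapBC :
    CliffordAlgebra (QuadGrp.baseChangeForm A Q) →+* CliffordAlgebra (QuadGrp.baseChangeForm B Q) :=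
  ((bcEquiv Q B).symm.toAlgHom.toRingHom).comp
    ((Algebra.TensorProduct.map φ (AlgHom.id R (CliffordAlgebra Q))).toRingHom.comp
      (bcEquiv Q A).toAlgHom.toRingHom)

theorem mapBC_algebraMap (a : A) : mapBC Q φ (algebraMap A _ a) = algebraMap B _ (φ a) := by
  show (bcEquiv Q B).symm (Algebra.TensorProduct.map φ (AlgHom.id R (CliffordAlgebra Q))
    (bcEquiv Q A (algebraMap A _ a))) = _
  rw [AlgEquiv.commutes, Algebra.TensorProduct.algebraMap_apply, Algebra.TensorProduct.map_tmul, map_one,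
    bcEquiv_symm_tmul, map_one, Algebra.algebraMap_self, RingHom.id_apply, Algebra.algebraMap_eq_smul_one]

theorem mapBC_toBC (x : CliffordAlgebra Q) : mapBC Q φ (toBC A Q x) = toBC B Q x := by
  show (bcEquiv Q B).symm (Algebra.TensorProduct.map φ (AlgHom.id R (CliffordAlgebra Q))
    (bcEquiv Q A (toBC A Q x))) = _
  rw [bcEquiv_toBC, Algebra.TensorProduct.map_tmul, map_one, AlgHom.id_apply, bcEquiv_symm_tmul, one_smul]

theorem mapBC_smul (a : A) (x : CliffordAlgebra (QuadGrp.baseChangeForm A Q)) :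
    mapBC Q φ (a • x) = φ a • mapBC Q φ x := by
  rw [Algebra.smul_def, map_mul, mapBC_algebraMap, ← Algebra.smul_def]

theorem mapBC_ι (v : A ⊗[R] M) :
    mapBC Q φ (ι _ v) = ι _ (LinearMap.rTensor M φ.toLinearMap v) := by
  induction v using TensorProduct.induction_on with
  | zero => simp
  | add v w hv hw => simp only [map_add, hv, hw]
  | tmul a m =>
    rw [LinearMap.rTensor_tmul, AlgHom.toLinearMap_apply, ← mul_one a, ← smul_eq_mul, ← TensorProduct.smul_tmul',
      map_smul, mapBC_smul, ← toBC_ι, mapBC_toBC, toBC_ι, ← map_smul, TensorProduct.smul_tmul',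
      smul_eq_mul, smul_eq_mul, mul_one, mul_one]

/-- Any ring map over `φ` with the same values on vectors is `mapBC`. -/
theorem eq_mapBC (F : CliffordAlgebra (QuadGrp.baseChangeForm A Q) →+* CliffordAlgebra (QuadGrp.baseChangeForm B Q))
    (h1 : ∀ v, F (ι _ v) = ι _ (LinearMap.rTensor M φ.toLinearMap v))
    (h2 : ∀ a, F (algebraMap A _ a) = algebraMap B _ (φ a)) (x : CliffordAlgebra (QuadGrp.baseChangeForm A Q)) :
    F x = mapBC Q φ x := by
  induction x using CliffordAlgebra.left_induction with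
  | algebraMap a => rw [h2, mapBC_algebraMap]
  | add x y hx hy => rw [map_add, map_add, hx, hy]
  | ι_mul x v hx => rw [map_mul, map_mul, hx, h1, mapBC_ι]

theorem mapBC_mem_evenOdd {i : ZMod 2} {x : CliffordAlgebra (QuadGrp.baseChangeForm A Q)}
    (hx : x ∈ evenOdd (QuadGrp.baseChangeForm A Q) i) :
    mapBC Q φ x ∈ evenOdd (QuadGrp.baseChangeForm B Q) i := by
  have key : ∀ v w y, y ∈ evenOdd (QuadGrp.baseChangeForm B Q) i →
      mapBC Q φ (ι (QuadGrp.baseChangeForm A Q) v * ι (QuadGrp.baseChangeForm A Q) w) * y ∈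
        evenOdd (QuadGrp.baseChangeForm B Q) i := fun v w y hy => by
    rw [map_mul, mapBC_ι, mapBC_ι]
    simpa using SetLike.mul_mem_graded (ι_mul_ι_mem_evenOdd_zero (QuadGrp.baseChangeForm B Q) _ _) hy
  rcases ((by decide : ∀ j : ZMod 2, j = 0 ∨ j = 1) i) with rfl | rfl
  · induction x, hx using even_induction with
    | algebraMap r => rw [mapBC_algebraMap]; exact SetLike.algebraMap_mem_graded _ _
    | add x y _ _ hx hy => rw [map_add]; exact Submodule.add_mem _ hx hy
    | ι_mul_ι_mul m₁ m₂ x _ hx => rw [map_mul]; exact key m₁ m₂ _ hx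
  · induction x, hx using odd_induction with
    | ι v => rw [mapBC_ι]; exact ι_mem_evenOdd_one _ _
    | add x y _ _ hx hy => rw [map_add]; exact Submodule.add_mem _ hx hy
    | ι_mul_ι_mul m₁ m₂ x _ hx => rw [map_mul]; exact key m₁ m₂ _ hx

theorem mapBC_star (x : CliffordAlgebra (QuadGrp.baseChangeForm A Q)) :
    mapBC Q φ (star x) = star (mapBC Q φ x) := by
  induction x using CliffordAlgebra.left_induction with
  | algebraMap r => rw [star_algebraMap, mapBC_algebraMap, star_algebraMap]
  | add x y hx hy => rw [star_add, map_add, map_add, star_add, hx, hy]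
  | ι_mul x v hx => rw [star_mul, map_mul, map_mul, star_mul, hx, star_ι, map_neg, mapBC_ι, star_ι]

theorem mapBC_surjective (h : Function.Surjective φ) : Function.Surjective (mapBC Q φ) := by
  intro y
  obtain ⟨t, rfl⟩ := (bcEquiv Q B).symm.surjective y
  induction t using TensorProduct.induction_on with
  | zero => exact ⟨0, by rw [map_zero, map_zero]⟩
  | add s t hs ht =>
    obtain ⟨a, ha⟩ := hs
    obtain ⟨c, hc⟩ := ht
    exact ⟨a + c, by rw [map_add, map_add, ha, hc]⟩
  | tmul r x =>
    obtain ⟨a, rfl⟩ := h r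
    exact ⟨a • toBC A Q x, by rw [mapBC_smul, mapBC_toBC, bcEquiv_symm_tmul]⟩

end Map

section Parity

variable {Q' : QuadraticForm R M}

/-- The parity projections. -/
noncomputable def par (q : QuadraticForm R M) (i : ZMod 2) : CliffordAlgebra q →ₗ[R] CliffordAlgebra q :=
  (evenOdd q i).subtype.comp ((DFinsupp.lapply i).comp (DirectSum.decomposeLinearEquiv (evenOdd q)).toLinearMap)

theorem par_mem (q : QuadraticForm R M) (i : ZMod 2) (x : CliffordAlgebra q) : par q i x ∈ evenOdd q i :=
  Submodule.coe_mem _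

theorem par_add_par (q : QuadraticForm R M) (x : CliffordAlgebra q) : par q 0 x + par q 1 x = x := by
  classical
  conv_rhs => rw [← DirectSum.sum_support_decompose (evenOdd q) x]
  rw [Finset.sum_subset (Finset.subset_univ _) (fun i _ hi => by
    rw [DFinsupp.notMem_support_iff.mp hi, ZeroMemClass.coe_zero])]
  exact (Fin.sum_univ_two (fun i : ZMod 2 => ((DirectSum.decompose (evenOdd q) x i : _) : CliffordAlgebra q))).symm

theorem par_of_mem {q : QuadraticForm R M} {i : ZMod 2} {x : CliffordAlgebra q} (h : x ∈ evenOdd q i) :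
    par q i x = x := DirectSum.decompose_of_mem_same (evenOdd q) h

theorem par_eq_zero {q : QuadraticForm R M} {i j : ZMod 2} {x : CliffordAlgebra q} (h : x ∈ evenOdd q i)
    (hij : i ≠ j) : par q j x = 0 := DirectSum.decompose_of_mem_ne (evenOdd q) h hij

/-- A conjugation relation splits by parity. -/
theorem par_conj {q : QuadraticForm R M} {x : CliffordAlgebra q} {v w : M} (h : x * ι q v = ι q w * x) (i : ZMod 2) :
    par q i x * ι q v = ι q w * par q i x := by
  have hx := par_add_par q x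
  have h' : par q 0 x * ι q v + par q 1 x * ι q v = ι q w * par q 0 x + ι q w * par q 1 x := by
    rw [← add_mul, ← mul_add, hx]; exact h
  have m1 := ι_mem_evenOdd_one q v
  have m2 := ι_mem_evenOdd_one q w
  have a1 : par q 0 x * ι q v ∈ evenOdd q 1 := by simpa using SetLike.mul_mem_graded (par_mem q 0 x) m1
  have a2 : ι q w * par q 0 x ∈ evenOdd q 1 := by simpa using SetLike.mul_mem_graded m2 (par_mem q 0 x)
  have c1 : par q 1 x * ι q v ∈ evenOdd q 0 := by
    simpa [show (1 + 1 : ZMod 2) = 0 by decide] using SetLike.mul_mem_graded (par_mem q 1 x) m1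
  have c2 : ι q w * par q 1 x ∈ evenOdd q 0 := by
    simpa [show (1 + 1 : ZMod 2) = 0 by decide] using SetLike.mul_mem_graded m2 (par_mem q 1 x)
  have := decomp_unique c1 c2 a1 a2 (by rw [add_comm, h', add_comm])
  rcases ((by decide : ∀ j : ZMod 2, j = 0 ∨ j = 1) i) with rfl | rfl
  exacts [this.2, this.1]

end Parity

theorem mapBC_par {A B : Type u} [CommRing A] [Algebra R A] [CommRing B] [Algebra R B] (φ : A →ₐ[R] B)
    (i : ZMod 2) (x : CliffordAlgebra (QuadGrp.baseChangeForm A Q)) :
    mapBC Q φ (par (QuadGrp.baseChangeForm A Q) i x) = par (QuadGrp.baseChangeForm B Q) i (mapBC Q φ x) := by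
  conv_rhs => rw [← par_add_par (QuadGrp.baseChangeForm A Q) x, map_add, map_add]
  rcases ((by decide : ∀ j : ZMod 2, j = 0 ∨ j = 1) i) with rfl | rfl
  · rw [par_of_mem (mapBC_mem_evenOdd Q φ (par_mem _ 0 x)),
      par_eq_zero (mapBC_mem_evenOdd Q φ (par_mem _ 1 x)) (by decide), add_zero]
  · rw [par_of_mem (mapBC_mem_evenOdd Q φ (par_mem _ 1 x)),
      par_eq_zero (mapBC_mem_evenOdd Q φ (par_mem _ 0 x)) (by decide), zero_add]

section Coord

variable {κ : Type*} (c : Module.Basis κ R (CliffordAlgebra Q)) (A : Type u) [CommRing A] [Algebra R A]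

/-- The basis of `C(Q_A)` induced by a basis of `C(Q)`. -/
noncomputable def bcBasis : Module.Basis κ A (CliffordAlgebra (QuadGrp.baseChangeForm A Q)) :=
  (c.baseChange A).map (bcEquiv Q A).symm.toLinearEquiv

@[simp] theorem bcBasis_apply (a : κ) : bcBasis Q c A a = toBC A Q (c a) := by
  rw [bcBasis, Module.Basis.map_apply, Module.Basis.baseChange_apply, AlgEquiv.toLinearEquiv_apply,
    bcEquiv_symm_tmul, one_smul]

theorem repr_mapBC {B : Type u} [CommRing B] [Algebra R B] (φ : A →ₐ[R] B)
    (x : CliffordAlgebra (QuadGrp.baseChangeForm A Q)) (a : κ) :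
    (bcBasis Q c B).repr (mapBC Q φ x) a = φ ((bcBasis Q c A).repr x a) := by
  simp only [bcBasis, Module.Basis.map_repr, LinearEquiv.trans_apply]
  show (c.baseChange B).repr (bcEquiv Q B ((bcEquiv Q B).symm (Algebra.TensorProduct.map φ
    (AlgHom.id R (CliffordAlgebra Q)) (bcEquiv Q A x)))) a = φ ((c.baseChange A).repr (bcEquiv Q A x) a)
  rw [AlgEquiv.apply_symm_apply]
  exact repr_rTensor c φ (bcEquiv Q A x) a

/-- The kernel of base change along a quotient. -/
theorem mem_smul_top_of_mapBC [Fintype κ] {B : Type u} [CommRing B] [Algebra R B] (φ : A →ₐ[R] B)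
    (c : Module.Basis κ R (CliffordAlgebra Q)) {x : CliffordAlgebra (QuadGrp.baseChangeForm A Q)}
    (h : mapBC Q φ x = 0) :
    x ∈ RingHom.ker φ • (⊤ : Submodule A (CliffordAlgebra (QuadGrp.baseChangeForm A Q))) := by
  rw [← (bcBasis Q c A).sum_repr x]
  refine Submodule.sum_mem _ fun a _ => Submodule.smul_mem_smul (RingHom.mem_ker.mpr ?_) Submodule.mem_top
  rw [← repr_mapBC, h, map_zero, Finsupp.zero_apply]

end Coord

section Nilpotent

variable {A : Type u} [CommRing A] {E : Type v} [Ring E] [Algebra A E] {I : Ideal A}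

theorem mul_eq_zero_of_smul_top (hI : I ^ 2 = ⊥) {x y : E} (hx : x ∈ I • (⊤ : Submodule A E))
    (hy : y ∈ I • (⊤ : Submodule A E)) : x * y = 0 := by
  refine Submodule.smul_induction_on hx (fun a ha p _ => ?_) fun p q hp hq => by rw [add_mul, hp, hq, add_zero]
  refine Submodule.smul_induction_on hy (fun c hc q _ => ?_) fun p q hp hq => by rw [mul_add, hp, hq, add_zero]
  have h0 : a * c = 0 := by
    rw [← Ideal.mem_bot, ← hI, sq]; exact Ideal.mul_mem_mul ha hc
  rw [smul_mul_smul_comm, h0, zero_smul]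

theorem isUnit_of_smul_top (hI : I ^ 2 = ⊥) {x y : E} (h1 : x * y - 1 ∈ I • (⊤ : Submodule A E))
    (h2 : y * x - 1 ∈ I • (⊤ : Submodule A E)) : IsUnit x := by
  have a1 : x * (y * (2 - x * y)) = 1 := by
    have := mul_eq_zero_of_smul_top hI h1 h1
    calc x * (y * (2 - x * y)) = 1 - (x * y - 1) * (x * y - 1) := by noncomm_ring
      _ = 1 := by rw [this, sub_zero]
  have a2 : (2 - y * x) * y * x = 1 := by
    have := mul_eq_zero_of_smul_top hI h2 h2
    calc (2 - y * x) * y * x = 1 - (y * x - 1) * (y * x - 1) := by noncomm_ring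
      _ = 1 := by rw [this, sub_zero]
  exact ⟨⟨x, y * (2 - x * y), a1, by rw [← left_inv_eq_right_inv a2 a1]; exact a2⟩, rfl⟩

end Nilpotent

end QuadSch
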