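import Groth.Agent.QuadSch.OrthAlg
import Groth.Agent.QuadGrpL.Field
import Mathlib.RingTheory.Localization.AtPrime.Basic
import Mathlib.LinearAlgebra.Matrix.NonsingularInverse
import Mathlib.Tactic

/-! Lifting isometries along square-zero ideals. -/

namespace QuadSch

open Matrix Finset QuadGrpLib

universe u

variable {A : Type u} [CommRing A] {n : ℕ}

/-- All entries lie in `I`. -/
def MatIn (I : Ideal A) (M : Matrix (Fin n) (Fin n) A) : Prop := ∀ i j, M i j ∈ I

theorem MatIn.mul_left {I : Ideal A} {M : Matrix (Fin n) (Fin n) A} (h : MatIn I M) (N : Matrix (Fin n) (Fin n) A) :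
    MatIn I (N * M) := fun i j => by
  rw [Matrix.mul_apply]; exact Ideal.sum_mem _ fun k _ => Ideal.mul_mem_left _ _ (h k j)

theorem MatIn.mul_right {I : Ideal A} {M : Matrix (Fin n) (Fin n) A} (h : MatIn I M) (N : Matrix (Fin n) (Fin n) A) :
    MatIn I (M * N) := fun i j => by
  rw [Matrix.mul_apply]; exact Ideal.sum_mem _ fun k _ => Ideal.mul_mem_right _ _ (h i k)

theorem MatIn.mul_eq_zero {I : Ideal A} (hI : I ^ 2 = ⊥) {M N : Matrix (Fin n) (Fin n) A} (hM : MatIn I M)
    (hN : MatIn I N) : M * N = 0 := by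
  ext i j
  rw [Matrix.mul_apply]
  refine Finset.sum_eq_zero fun k _ => ?_
  have : M i k * N k j ∈ I ^ 2 := by rw [sq]; exact Ideal.mul_mem_mul (hM i k) (hN k j)
  rwa [hI, Ideal.mem_bot] at this

theorem mul_eq_zero_of_sq {I : Ideal A} (hI : I ^ 2 = ⊥) {x y : A} (hx : x ∈ I) (hy : y ∈ I) : x * y = 0 := by
  have : x * y ∈ I ^ 2 := by rw [sq]; exact Ideal.mul_mem_mul hx hy
  rwa [hI, Ideal.mem_bot] at this

theorem det_one_add {I : Ideal A} (hI : I ^ 2 = ⊥) {Y : Matrix (Fin n) (Fin n) A} (hY : MatIn I Y) :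
    (1 + Y).det = 1 + ∑ i, Y i i := by
  classical
  have hprod : ∀ s : Finset (Fin n), ∏ i ∈ s, (1 + Y i i) = 1 + ∑ i ∈ s, Y i i := by
    intro s
    induction s using Finset.induction_on with
    | empty => simp
    | insert a s ha ih =>
      rw [Finset.prod_insert ha, Finset.sum_insert ha, ih]
      have := mul_eq_zero_of_sq hI (hY a a) (I.sum_mem fun i (_ : i ∈ s) => hY i i)
      linear_combination this
  rw [Matrix.det_apply', Finset.sum_eq_single (1 : Equiv.Perm (Fin n))]
  · simp [hprod Finset.univ]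
  · intro σ _ hσ
    obtain ⟨a, ha⟩ : ∃ a, σ a ≠ a := by
      by_contra h
      push Not at h
      exact hσ (Equiv.ext h)
    rw [← Finset.mul_prod_erase Finset.univ _ (Finset.mem_univ a),
      ← Finset.mul_prod_erase (Finset.univ.erase a) _ (Finset.mem_erase.mpr ⟨ha, Finset.mem_univ (σ a)⟩)]
    have h1 : (1 + Y) (σ a) a ∈ I := by
      rw [Matrix.add_apply, Matrix.one_apply_ne ha, zero_add]; exact hY _ _
    have h2 : (1 + Y) (σ (σ a)) (σ a) ∈ I := by
      rw [Matrix.add_apply, Matrix.one_apply_ne (fun h => ha (σ.injective h)), zero_add]; exact hY _ _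
    rw [← mul_assoc ((1 + Y) (σ a) a), mul_eq_zero_of_sq hI h1 h2, zero_mul, mul_zero]
  · simp

/-- The upper triangular representative. -/
def upper (D : Matrix (Fin n) (Fin n) A) : Matrix (Fin n) (Fin n) A :=
  Matrix.of fun i j => if i = j then D i i else if i < j then D i j + D j i else 0

theorem upper_alt (D : Matrix (Fin n) (Fin n) A) : IsAltMat (D - upper D) := by
  refine ⟨fun i => by simp [upper], fun i j => ?_⟩
  rcases lt_trichotomy i j with h | rfl | h
  · simp [upper, h, h.ne, h.ne', h.not_gt]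
  · simp [upper]
  · simp [upper, h, h.ne, h.ne', h.not_gt]

theorem upper_mem {I : Ideal A} {D : Matrix (Fin n) (Fin n) A} (h : ∀ z, uCoeff D z ∈ I) : MatIn I (upper D) := by
  intro i j
  have := h (Sym2.mk i j)
  rcases lt_trichotomy i j with h' | rfl | h'
  · simpa [upper, uCoeff, h', h'.ne] using this
  · simpa [upper, uCoeff] using this
  · simp [upper, h'.ne', h'.not_gt]

theorem sym_mem {I : Ideal A} {D : Matrix (Fin n) (Fin n) A} (h : ∀ z, uCoeff D z ∈ I) : MatIn I (D + Dᵀ) := by
  intro i j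
  have := h (Sym2.mk i j)
  by_cases hij : i = j
  · subst hij
    simp only [uCoeff, Sym2.lift_mk, if_pos, Matrix.add_apply, Matrix.transpose_apply] at this ⊢
    exact I.add_mem this this
  · simpa [uCoeff, hij] using this

/-- The linearised correction. -/
theorem isOrthMat_mul_one_add {I : Ideal A} (hI : I ^ 2 = ⊥) {U g Y : Matrix (Fin n) (Fin n) A}
    (hg : ∀ z, uCoeff (gᵀ * U * g - U) z ∈ I) (hY : MatIn I Y)
    (h : IsAltMat (upper (gᵀ * U * g - U) + (U + Uᵀ) * Y)) : IsOrthMat U (g * (1 + Y)) := by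
  set V := gᵀ * U * g with hV
  have e : (g * (1 + Y))ᵀ * U * (g * (1 + Y)) = V + (Yᵀ * V + V * Y) + Yᵀ * V * Y := by
    rw [hV]
    simp only [Matrix.transpose_mul, Matrix.transpose_add, Matrix.transpose_one, Matrix.add_mul, Matrix.mul_add,
      Matrix.one_mul, Matrix.mul_one, Matrix.mul_assoc]
    abel
  have hYt : MatIn I Yᵀ := fun i j => hY j i
  have h0 : Yᵀ * V * Y = 0 := (hYt.mul_right V).mul_eq_zero hI hY
  have hP : (V + Vᵀ) * Y = (U + Uᵀ) * Y := by
    rw [← sub_eq_zero, ← Matrix.sub_mul]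
    refine MatIn.mul_eq_zero hI ?_ hY
    have : V + Vᵀ - (U + Uᵀ) = (V - U) + (V - U)ᵀ := by rw [Matrix.transpose_sub]; abel
    rw [this]; exact sym_mem hg
  have e2 : (g * (1 + Y))ᵀ * U * (g * (1 + Y)) - U = (V - U - upper (V - U)) + (Yᵀ * V - (Yᵀ * V)ᵀ) +
      (upper (V - U) + (U + Uᵀ) * Y) := by
    rw [e, h0, ← hP, Matrix.transpose_mul, Matrix.transpose_transpose, Matrix.add_mul]
    abel
  rw [IsOrthMat, e2]
  exact isAltMat_add (isAltMat_add (upper_alt _) (isAltMat_sub_transpose _)) h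

/-- The linearised correction between two congruent forms. -/
theorem alt_congr_one_add {I : Ideal A} (hI : I ^ 2 = ⊥) {U V Y : Matrix (Fin n) (Fin n) A}
    (hg : ∀ z, uCoeff (V - U) z ∈ I) (hY : MatIn I Y)
    (h : IsAltMat (upper (V - U) + (U + Uᵀ) * Y)) : IsAltMat ((1 + Y)ᵀ * V * (1 + Y) - U) := by
  have e : (1 + Y)ᵀ * V * (1 + Y) = V + (Yᵀ * V + V * Y) + Yᵀ * V * Y := by
    simp only [Matrix.transpose_add, Matrix.transpose_one, Matrix.add_mul, Matrix.mul_add,
      Matrix.one_mul, Matrix.mul_one, Matrix.mul_assoc]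
    abel
  have hYt : MatIn I Yᵀ := fun i j => hY j i
  have h0 : Yᵀ * V * Y = 0 := (hYt.mul_right V).mul_eq_zero hI hY
  have hP : (V + Vᵀ) * Y = (U + Uᵀ) * Y := by
    rw [← sub_eq_zero, ← Matrix.sub_mul]
    refine MatIn.mul_eq_zero hI ?_ hY
    have : V + Vᵀ - (U + Uᵀ) = (V - U) + (V - U)ᵀ := by rw [Matrix.transpose_sub]; abel
    rw [this]; exact sym_mem hg
  have e2 : (1 + Y)ᵀ * V * (1 + Y) - U = (V - U - upper (V - U)) + (Yᵀ * V - (Yᵀ * V)ᵀ) +
      (upper (V - U) + (U + Uᵀ) * Y) := by
    rw [e, h0, ← hP, Matrix.transpose_mul, Matrix.transpose_transpose, Matrix.add_mul]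
    abel
  rw [e2]
  exact isAltMat_add (isAltMat_add (upper_alt _) (isAltMat_sub_transpose _)) h

theorem mul_one_add_sub_mem {I : Ideal A} {g Y : Matrix (Fin n) (Fin n) A} (hY : MatIn I Y) (i j : Fin n) :
    (g * (1 + Y)) i j - g i j ∈ I := by
  rw [Matrix.mul_add, Matrix.mul_one, Matrix.add_apply, add_sub_cancel_left]
  exact hY.mul_left g i j

/-- Lifting when the polar matrix is invertible. -/
theorem exists_orth_lift {I : Ideal A} (hI : I ^ 2 = ⊥) {U g : Matrix (Fin n) (Fin n) A}
    (hP : IsUnit (U + Uᵀ).det) (hg : ∀ z, uCoeff (gᵀ * U * g - U) z ∈ I) :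
    ∃ Y, MatIn I Y ∧ IsOrthMat U (g * (1 + Y)) := by
  refine ⟨-((U + Uᵀ)⁻¹ * upper (gᵀ * U * g - U)), ?_, ?_⟩
  · intro i j; rw [Matrix.neg_apply]; exact I.neg_mem ((upper_mem hg).mul_left _ i j)
  · refine isOrthMat_mul_one_add hI hg ?_ ?_
    · intro i j; rw [Matrix.neg_apply]; exact I.neg_mem ((upper_mem hg).mul_left _ i j)
    · rw [Matrix.mul_neg, Matrix.mul_nonsing_inv_cancel_left _ _ hP, add_neg_cancel]
      exact ⟨fun i => rfl, fun i j => by simp⟩

theorem det_eq_one_of_two {I : Ideal A} (hI : I ^ 2 = ⊥) (h2 : IsUnit (2 : A)) {d : A} (hd : d * d = 1)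
    (h : d - 1 ∈ I) : d = 1 := by
  have h0 := mul_eq_zero_of_sq hI h h
  have h3 : 2 * (d - 1) = 0 := by linear_combination hd - h0
  exact sub_eq_zero.mp (h2.mul_right_eq_zero.mp h3)

theorem exists_unit_adjugate_diag [IsLocalRing A] (hn : Odd n) {U : Matrix (Fin n) (Fin n) A}
    (hU' : IsUnit (hU U)) (h2 : ¬IsUnit (2 : A)) : ∃ i, IsUnit ((U + Uᵀ).adjugate i i) := by
  classical
  set P := U + Uᵀ with hP
  have hsymm : Pᵀ = P := by rw [hP, Matrix.transpose_add, Matrix.transpose_transpose]; exact add_comm _ _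
  let m := IsLocalRing.maximalIdeal A
  let res := IsLocalRing.residue A
  have hres : ∀ x, res x = 0 ↔ x ∈ m := fun x => IsLocalRing.residue_eq_zero_iff x
  have htop := QuadGrpLib.span_adjugate_eq_top U hn.pos (fun he => absurd he (Nat.not_even_iff_odd.mpr hn))
    (fun _ => hU')
  obtain ⟨j, r, hjr⟩ : ∃ j r, ¬P.adjugate j r ∈ m := by
    by_contra hall
    push Not at hall
    refine (IsLocalRing.maximalIdeal.isMaximal A).ne_top (top_le_iff.mp ?_)
    rw [← htop, Ideal.span_le]
    rintro _ ⟨⟨a, c⟩, rfl⟩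
    exact hall a c
  refine ⟨r, not_not.mp fun hr => ?_⟩
  let Pk := P.map res
  have hadj : ∀ a c, Pk.adjugate a c = res (P.adjugate a c) := fun a c => by
    show (res.mapMatrix P).adjugate a c = _
    rw [← RingHom.map_adjugate]; rfl
  have hd : Pk.det = 0 := by
    show (res.mapMatrix P).det = 0
    rw [← RingHom.map_det, hres, hP, ← QuadGrpLib.two_mul_hU hn]
    exact Ideal.mul_mem_right _ _ h2
  have hy : (Pk.adjugate j) ᵥ* Pk = 0 := by
    funext c
    have := congrFun (congrFun (Matrix.adjugate_mul Pk) j) c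
    rw [hd, zero_smul] at this
    exact this
  have key := QuadGrpLib.smul_adjugate_eq hy r r j
  rw [show Pk.adjugate r j = Pk.adjugate j r by
    rw [← Matrix.transpose_apply Pk.adjugate j r, Matrix.adjugate_transpose, ← Matrix.transpose_map, hsymm]] at key
  rw [hadj j r, hadj r r, (hres _).mpr hr, mul_zero] at key
  exact hjr ((hres _).mp (mul_self_eq_zero.mp key))

theorem det_of_updateCol (i : Fin n) (w : Fin n → A) :
    ((1 : Matrix (Fin n) (Fin n) A).updateCol i w).det = w i := by
  have h := Matrix.det_transpose ((1 : Matrix (Fin n) (Fin n) A).updateCol i w)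
  rw [← h, ← Matrix.updateRow_transpose, Matrix.transpose_one]
  have := Matrix.det_updateRow_sum (1 : Matrix (Fin n) (Fin n) A) i w
  rw [Matrix.det_one, smul_eq_mul, mul_one] at this
  rw [← this]
  congr 2
  funext b
  simp [Finset.sum_apply, Matrix.one_apply]

/-- A local solution of the linearised equations. -/
theorem exists_correction_local [IsLocalRing A] (hn : Odd n) {I : Ideal A} (hI : I ^ 2 = ⊥)
    {U V : Matrix (Fin n) (Fin n) A} (hU' : IsUnit (hU U)) (hg : ∀ z, uCoeff (V - U) z ∈ I)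
    {τ : A} (hτ : τ ∈ I) (hdisc : (1 + τ) ^ 2 * hU V = hU U) :
    ∃ Y, MatIn I Y ∧ IsAltMat (upper (V - U) + (U + Uᵀ) * Y) ∧ ∑ i, Y i i = τ := by
  classical
  set D := upper (V - U) with hD
  have hDI : MatIn I D := upper_mem hg
  have hdd : ∀ Y : Matrix (Fin n) (Fin n) A, MatIn I Y → ∑ i, Y i i = τ → (1 + Y).det = 1 + τ := fun Y hY h => by
    rw [det_one_add hI hY, h]
  by_cases h2 : IsUnit (2 : A)
  · have hP : IsUnit (U + Uᵀ).det := by rw [← two_mul_hU hn]; exact h2.mul hU'
    have hY : MatIn I (-((U + Uᵀ)⁻¹ * D)) := fun i j => by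
      rw [Matrix.neg_apply]; exact I.neg_mem (hDI.mul_left _ i j)
    have halt : IsAltMat (D + (U + Uᵀ) * -((U + Uᵀ)⁻¹ * D)) := by
      rw [Matrix.mul_neg, Matrix.mul_nonsing_inv_cancel_left _ _ hP, add_neg_cancel]
      exact ⟨fun i => rfl, fun i j => by simp⟩
    refine ⟨_, hY, halt, ?_⟩
    have h1 := hU_eq_of_alt (alt_congr_one_add hI hg hY halt)
    have e := hU_congr hn V (1 + -((U + Uᵀ)⁻¹ * D))ᵀ
    rw [Matrix.transpose_transpose, Matrix.det_transpose, det_one_add hI hY] at e
    have ht : ∑ i, (-((U + Uᵀ)⁻¹ * D)) i i ∈ I := I.sum_mem fun i _ => hY i i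
    rw [e] at h1
    have hVu : IsUnit (hU V) := (IsUnit.mul_iff.mp (hdisc.symm ▸ hU')).2
    have hsq := hVu.mul_right_cancel (h1.trans hdisc.symm)
    have h3 : 2 * (∑ i, (-((U + Uᵀ)⁻¹ * D)) i i - τ) = 0 := by
      linear_combination hsq - mul_eq_zero_of_sq hI ht ht + mul_eq_zero_of_sq hI hτ hτ
    exact sub_eq_zero.mp (h2.mul_right_eq_zero.mp h3)
  · obtain ⟨i, hi⟩ := exists_unit_adjugate_diag hn hU' h2
    obtain ⟨c, hc⟩ := hi.exists_left_inv
    set P := U + Uᵀ with hP
    have hsymm : Pᵀ = P := by rw [hP, Matrix.transpose_add, Matrix.transpose_transpose]; exact add_comm _ _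
    set L := (1 : Matrix (Fin n) (Fin n) A).updateCol i (fun a => c * P.adjugate a i) with hL
    have hLd : L.det = 1 := by rw [hL, det_of_updateCol, hc]
    have hLinv : L * L.adjugate = 1 := by rw [Matrix.mul_adjugate, hLd, one_smul]
    have hLinv' : L.adjugate * L = 1 := by rw [Matrix.adjugate_mul, hLd, one_smul]
    set U2 := Lᵀ * U * L with hU2
    have hP2 : U2 + U2ᵀ = Lᵀ * P * L := by
      rw [hP, hU2]; simp [Matrix.transpose_mul, Matrix.mul_add, Matrix.add_mul, Matrix.mul_assoc]
    have hcol : ∀ j, j ≠ i → (Lᵀ * P * L) j i = 0 := by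
      intro j hj
      rw [Matrix.mul_assoc, Matrix.mul_apply, Finset.sum_eq_single i]
      · simp [hL, Matrix.updateCol_ne hj, Matrix.one_apply_ne hj.symm]
      · intro a _ ha
        have h := congrFun (congrFun (Matrix.mul_adjugate P) a) i
        rw [Matrix.smul_apply, Matrix.one_apply_ne ha, smul_zero] at h
        have : (P * L) a i = c * (P * P.adjugate) a i := by
          simp only [Matrix.mul_apply, hL, Matrix.updateCol_self, Finset.mul_sum]
          exact Finset.sum_congr rfl fun _ _ => by ring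
        rw [this, h, mul_zero, mul_zero]
      · simp
    have hsymm2 : (U2 + U2ᵀ)ᵀ = U2 + U2ᵀ := by
      rw [Matrix.transpose_add, Matrix.transpose_transpose]; exact add_comm _ _
    have hrow : ∀ j, j ≠ i → U2 i j + U2 j i = 0 := fun j hj => by
      have h := hcol j hj
      rw [← hP2, Matrix.add_apply, Matrix.transpose_apply] at h
      linear_combination h
    have hU2h : hU U2 = hU U := by
      have := hU_congr hn U Lᵀ
      rwa [Matrix.transpose_transpose, Matrix.det_transpose, hLd, one_pow, one_mul] at this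
    have hprod : hU U2 = U2 i i * (U2 + U2ᵀ).adjugate i i := hU_of_row hn U2 i hrow
    have hadj : IsUnit ((U2 + U2ᵀ).adjugate i i) := (IsUnit.mul_iff.mp (hprod ▸ hU2h ▸ hU')).2
    set T := Lᵀ * D * L with hT
    have hTI : MatIn I T := (hDI.mul_left _).mul_right _
    let K : Matrix (Fin n) (Fin n) A := Matrix.of fun a b =>
      if a = i ∧ b ≠ i then -T a b else if b = i ∧ a ≠ i then T b a else 0
    have hK : IsAltMat K := by
      refine ⟨fun a => by by_cases ha : a = i <;> simp [K, ha], fun a b => ?_⟩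
      by_cases ha : a = i <;> by_cases hb : b = i <;> simp [K, ha, hb]
    set N := T + K with hN
    have hNI : MatIn I N := fun a b => by
      refine I.add_mem (hTI a b) ?_
      show (if a = i ∧ b ≠ i then -T a b else if b = i ∧ a ≠ i then T b a else 0) ∈ I
      split_ifs
      · exact I.neg_mem (hTI a b)
      · exact hTI b a
      · exact I.zero_mem
    have hNrow : ∀ b, b ≠ i → N i b = 0 := fun b hb => by simp [hN, K, hb]
    set P2 := U2 + U2ᵀ with hP2d
    have hP2col : ∀ a, a ≠ i → P2 a i = 0 := fun a ha => by rw [hP2]; exact hcol a ha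
    set Ph := P2.updateRow i (Pi.single i 1) with hPh
    have hPhd : IsUnit Ph.det := by rw [hPh, ← Matrix.adjugate_apply]; exact hadj
    set Z := Ph⁻¹ * N with hZ
    have hZI : MatIn I Z := hNI.mul_left _
    have hPZ : Ph * Z = N := Matrix.mul_nonsing_inv_cancel_left _ _ hPhd
    have hZrow : ∀ b, Z i b = N i b := fun b => by
      rw [← hPZ, Matrix.mul_apply, Finset.sum_eq_single i]
      · simp [hPh]
      · intro a _ ha; simp [hPh, ha]
      · simp
    set y := τ + ∑ a ∈ Finset.univ.erase i, Z a a with hy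
    have hyI : y ∈ I := I.add_mem hτ (I.sum_mem fun a _ => hZI a a)
    let Y2 : Matrix (Fin n) (Fin n) A := Matrix.of fun a b => if a = i ∧ b = i then y else -Z a b
    have hY2I : MatIn I Y2 := fun a b => by
      show (if a = i ∧ b = i then y else -Z a b) ∈ I
      split_ifs
      exacts [hyI, I.neg_mem (hZI a b)]
    set r := P2 i i * y + N i i with hr
    have hR : N + P2 * Y2 = Matrix.single i i r := by
      ext a b
      rw [Matrix.add_apply, Matrix.mul_apply]
      by_cases ha : a = i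
      · subst ha
        rw [Finset.sum_eq_single a]
        · by_cases hb : b = a
          · subst hb; simp [Y2, hr, add_comm]
          · simp [Y2, hb, Ne.symm hb, hZrow, hNrow b hb]
        · intro x _ hx
          have : P2 a x = 0 := by
            rw [← Matrix.transpose_apply P2 x a, hsymm2]; exact hP2col x hx
          rw [this, zero_mul]
        · simp
      · have h0 := congrFun (congrFun hPZ a) b
        rw [Matrix.mul_apply] at h0
        rw [Matrix.single_apply_of_ne _ _ _ _ _ (fun h => ha h.1.symm), ← h0, ← Finset.sum_add_distrib]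
        refine Finset.sum_eq_zero fun x _ => ?_
        by_cases hx : x = i
        · subst hx; simp [hPh, ha, hP2col a ha]
        · simp [hPh, ha, Y2, hx]
    obtain ⟨Y, hYdef⟩ : ∃ Y, Y = L * Y2 * L.adjugate := ⟨_, rfl⟩
    have hYI : MatIn I Y := hYdef ▸ (hY2I.mul_left _).mul_right _
    have htr : ∑ a, Y a a = τ := by
      show Matrix.trace Y = _
      rw [hYdef, Matrix.trace_mul_comm, ← Matrix.mul_assoc, hLinv', Matrix.one_mul, Matrix.trace,
        ← Finset.add_sum_erase _ _ (Finset.mem_univ i), Finset.sum_congr rfl fun a ha => (show Matrix.diag Y2 a = -Z a a by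
          simp [Y2, (Finset.ne_of_mem_erase ha)])]
      simp [Y2, hy, Finset.sum_neg_distrib]
      ring
    have hLY : Lᵀ * (D + P * Y) * L = T + P2 * Y2 := by
      rw [Matrix.mul_add, Matrix.add_mul, hP2, hT, hYdef]
      congr 1
      simp only [Matrix.mul_assoc, hLinv', Matrix.mul_one]
    -- the remaining scalar vanishes by the half-discriminant
    have hr0 : r = 0 := by
      obtain ⟨g1, hg1⟩ : ∃ g1, g1 = 1 + Y := ⟨_, rfl⟩
      have hd1 : g1.det = 1 + τ := hg1 ▸ hdd Y hYI htr
      have e : IsAltMat (Lᵀ * (g1ᵀ * V * g1) * L - (U2 + Matrix.single i i r)) := by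
        have e1 : g1ᵀ * V * g1 = V + (Yᵀ * V + V * Y) + Yᵀ * V * Y := by
          rw [hg1]
          simp only [Matrix.transpose_mul, Matrix.transpose_add, Matrix.transpose_one, Matrix.add_mul, Matrix.mul_add,
            Matrix.one_mul, Matrix.mul_one, Matrix.mul_assoc]
          abel
        have hYt : MatIn I Yᵀ := fun a b => hYI b a
        have h0 : Yᵀ * V * Y = 0 := (hYt.mul_right V).mul_eq_zero hI hYI
        have hPV : (V + Vᵀ) * Y = P * Y := by
          rw [← sub_eq_zero, ← Matrix.sub_mul]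
          refine MatIn.mul_eq_zero hI ?_ hYI
          have : V + Vᵀ - (U + Uᵀ) = (V - U) + (V - U)ᵀ := by rw [Matrix.transpose_sub]; abel
          rw [this]; exact sym_mem hg
        have e2 : g1ᵀ * V * g1 - U - (D + P * Y) = (V - U - D) + (Yᵀ * V - (Yᵀ * V)ᵀ) := by
          rw [e1, h0, ← hPV, Matrix.transpose_mul, Matrix.transpose_transpose, Matrix.add_mul]
          abel
        have h1 : IsAltMat (g1ᵀ * V * g1 - U - (D + P * Y)) := by
          rw [e2]; exact isAltMat_add (upper_alt _) (isAltMat_sub_transpose _)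
        have h2' := isAltMat_sub (h1.congr L) hK
        convert h2' using 1
        rw [← hR, Matrix.mul_sub, Matrix.sub_mul, Matrix.mul_sub, Matrix.sub_mul, hLY, hU2, hN]
        abel
      have h1 := hU_eq_of_alt e
      have hl : hU (Lᵀ * (g1ᵀ * V * g1) * L) = hU U := by
        have a1 := hU_congr hn (g1ᵀ * V * g1) Lᵀ
        rw [Matrix.transpose_transpose, Matrix.det_transpose, hLd, one_pow, one_mul] at a1
        have a2 := hU_congr hn V g1ᵀ
        rw [Matrix.transpose_transpose, Matrix.det_transpose, hd1, hdisc] at a2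
        rw [a1, a2]
      rw [hl, hU_of_row hn (U2 + Matrix.single i i r) i (fun j hj => by simp [Matrix.single_apply, hj, Ne.symm hj, hrow j hj]),
        ← hU2h, hprod] at h1
      have hadj' : ((U2 + Matrix.single i i r) + (U2 + Matrix.single i i r)ᵀ).adjugate i i = P2.adjugate i i := by
        rw [Matrix.adjugate_apply, Matrix.adjugate_apply]
        congr 1
        ext a b
        by_cases ha : a = i
        · subst ha; simp
        · simp [ha, Matrix.single_apply, Ne.symm ha, hP2d]
      rw [hadj', Matrix.add_apply, Matrix.single_apply_same, add_mul] at h1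
      exact hadj.mul_left_eq_zero.mp (by linear_combination -h1)
    refine ⟨Y, hYI, ?_, htr⟩
    have hback : D + P * Y = L.adjugateᵀ * (T + P2 * Y2) * L.adjugate := by
      rw [← hLY]
      simp only [Matrix.mul_assoc]
      rw [hLinv, Matrix.mul_one, ← Matrix.mul_assoc L.adjugateᵀ, ← Matrix.transpose_mul, hLinv,
        Matrix.transpose_one, Matrix.one_mul]
    rw [hback]
    refine IsAltMat.congr ?_ _
    have : T + P2 * Y2 = (N + P2 * Y2) - K := by rw [hN]; abel
    rw [this, hR, hr0]
    simpa using isAltMat_neg hK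

/-- A global solution of the linearised equations. -/
theorem exists_correction_gen (hn : Odd n) {I : Ideal A} (hI : I ^ 2 = ⊥) {U V : Matrix (Fin n) (Fin n) A}
    (hU' : IsUnit (hU U)) (hg : ∀ z, uCoeff (V - U) z ∈ I) {τ : A} (hτ : τ ∈ I)
    (hdisc : (1 + τ) ^ 2 * hU V = hU U) :
    ∃ Y, MatIn I Y ∧ IsAltMat (upper (V - U) + (U + Uᵀ) * Y) ∧ ∑ i, Y i i = τ := by
  classical
  set D := upper (V - U) with hD
  set P := U + Uᵀ with hP
  let K : Ideal A :=
    { carrier := {s | ∃ Y, MatIn I Y ∧ IsAltMat (s • D + P * Y) ∧ ∑ i, Y i i = s * τ}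
      add_mem' := by
        rintro s t ⟨Y, h1, h2, h3⟩ ⟨Z, k1, k2, k3⟩
        refine ⟨Y + Z, fun i j => I.add_mem (h1 i j) (k1 i j), ?_, ?_⟩
        · have : (s + t) • D + P * (Y + Z) = (s • D + P * Y) + (t • D + P * Z) := by
            rw [add_smul, Matrix.mul_add]; abel
          rw [this]; exact isAltMat_add h2 k2
        · simp only [Matrix.add_apply, Finset.sum_add_distrib, h3, k3]; ring
      zero_mem' := ⟨0, fun i j => I.zero_mem, ⟨fun i => by simp, fun i j => by simp⟩, by simp⟩
      smul_mem' := by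
        rintro a s ⟨Y, h1, h2, h3⟩
        refine ⟨a • Y, fun i j => I.mul_mem_left a (h1 i j), ?_, ?_⟩
        · have : (a • s) • D + P * (a • Y) = a • (s • D + P * Y) := by
            rw [smul_add, Matrix.mul_smul, smul_assoc]
          rw [this]
          exact ⟨fun i => by simp [h2.1], fun i j => by simp [h2.2 i j]; ring⟩
        · simp only [Matrix.smul_apply, smul_eq_mul, ← Finset.mul_sum, h3]; ring }
  suffices h1 : (1 : A) ∈ K by
    obtain ⟨Y, a, b, c⟩ := h1
    exact ⟨Y, a, by simpa using b, by simpa using c⟩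
  rw [← Ideal.eq_top_iff_one]
  by_contra hne
  obtain ⟨p, hp, hle⟩ := Ideal.exists_le_maximal K hne
  haveI := hp.isPrime
  let B := Localization.AtPrime p
  let f := algebraMap A B
  have hcoeff : ∀ (W : Matrix (Fin n) (Fin n) A) z, uCoeff (W.map f) z = f (uCoeff W z) := fun W z => by
    induction z using Sym2.ind with
    | h i j => by_cases h : i = j <;> simp [uCoeff, h]
  have hV : (V - U).map f = V.map f - U.map f := Matrix.map_sub _ (map_sub f) _ _
  obtain ⟨Y, hY, halt, htr⟩ := exists_correction_local (A := B) hn (I := I.map f)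
    (by rw [← Ideal.map_pow, hI, Ideal.map_bot]) (U := U.map f) (V := V.map f)
    (by rw [← map_hU]; exact hU'.map f)
    (fun z => by rw [← hV, hcoeff]; exact Ideal.mem_map_of_mem f (hg z))
    (τ := f τ) (Ideal.mem_map_of_mem f hτ)
    (by rw [← map_hU, ← map_hU, ← map_one f, ← map_add, ← map_pow, ← map_mul, hdisc])
  have hDmap : upper (V.map f - U.map f) = D.map f := by
    rw [← hV]
    ext i j
    rcases lt_trichotomy i j with h | rfl | h
    · simp [hD, upper, h, h.ne]
    · simp [hD, upper]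
    · simp [hD, upper, h.ne', h.not_gt]
  have hPmap : U.map f + (U.map f)ᵀ = P.map f := by
    rw [hP, Matrix.map_add _ (map_add f), Matrix.transpose_map]
  rw [hDmap, hPmap] at halt
  choose xt hxt using fun ij : Fin n × Fin n => (IsLocalization.mem_map_algebraMap_iff p.primeCompl B).mp (hY ij.1 ij.2)
  let s : A := ∏ ij, ((xt ij).2 : A)
  have hs : s ∈ p.primeCompl := prod_mem fun ij _ => (xt ij).2.2
  let Y0 : Matrix (Fin n) (Fin n) A := Matrix.of fun i j =>
    ((xt (i, j)).1 : A) * ∏ ij ∈ Finset.univ.erase (i, j), ((xt ij).2 : A)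
  have hY0 : MatIn I Y0 := fun i j => Ideal.mul_mem_right _ _ (xt (i, j)).1.2
  have hY0f : Y0.map f = f s • Y := by
    ext i j
    rw [Matrix.map_apply, Matrix.smul_apply, smul_eq_mul, mul_comm]
    show f (((xt (i, j)).1 : A) * _) = _
    rw [map_mul, ← hxt (i, j), show s = ((xt (i, j)).2 : A) * ∏ ij ∈ Finset.univ.erase (i, j), ((xt ij).2 : A) from
      (Finset.mul_prod_erase _ _ (Finset.mem_univ (i, j))).symm, map_mul]
    ring
  have hz : ∀ z, ∃ t : p.primeCompl, (t : A) * uCoeff (s • D + P * Y0) z = 0 := fun z => by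
    refine (IsLocalization.map_eq_zero_iff p.primeCompl B _).mp ?_
    show f _ = 0
    rw [← hcoeff]
    have : (s • D + P * Y0).map f = f s • (D.map f + P.map f * Y) := by
      rw [Matrix.map_add _ (map_add f), Matrix.map_mul, hY0f, smul_add, Matrix.mul_smul]
      congr 1
      ext i j; simp
    rw [this]
    have h0 : IsAltMat (f s • (D.map f + P.map f * Y)) :=
      ⟨fun i => by rw [Matrix.smul_apply, halt.1, smul_zero], fun i j => by
        rw [Matrix.smul_apply, Matrix.smul_apply, halt.2 i j, smul_neg]⟩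
    exact congrFun ((isAltMat_iff _).mp h0) z
  obtain ⟨t', ht'⟩ : ∃ t : p.primeCompl, (t : A) * (∑ i, Y0 i i - s * τ) = 0 := by
    refine (IsLocalization.map_eq_zero_iff p.primeCompl B _).mp ?_
    show f _ = 0
    have : ∀ i, f (Y0 i i) = f s * Y i i := fun i => congrFun (congrFun hY0f i) i
    rw [map_sub, map_sum, map_mul]
    simp only [this, ← Finset.mul_sum, htr, sub_self]
  choose t ht using hz
  let w : A := (t' : A) * ∏ z, (t z : A)
  have hw : w ∈ p.primeCompl := mul_mem t'.2 (prod_mem fun z _ => (t z).2)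
  refine (mul_mem hw hs : w * s ∈ p.primeCompl) (hle ⟨w • Y0, fun i j => I.mul_mem_left w (hY0 i j), ?_, ?_⟩)
  · have : (w * s) • D + P * (w • Y0) = w • (s • D + P * Y0) := by
      rw [smul_add, Matrix.mul_smul, mul_smul]
    rw [this, isAltMat_iff]
    funext z
    have e : uCoeff (w • (s • D + P * Y0)) z = w * uCoeff (s • D + P * Y0) z := by
      induction z using Sym2.ind with
      | h i j => by_cases h : i = j <;> simp [uCoeff, h, mul_add]
    rw [e, Pi.zero_apply]
    show (t' : A) * (∏ z, (t z : A)) * _ = 0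
    rw [← Finset.mul_prod_erase _ _ (Finset.mem_univ z)]
    linear_combination ((t' : A) * ∏ x ∈ Finset.univ.erase z, (t x : A)) * ht z
  · simp only [Matrix.smul_apply, smul_eq_mul, ← Finset.mul_sum]
    show (t' : A) * (∏ z, (t z : A)) * _ = (t' : A) * (∏ z, (t z : A)) * s * _
    linear_combination (∏ z, (t z : A)) * ht'

/-- The correction making a matrix orthogonal of determinant one. -/
theorem exists_correction (hn : Odd n) {I : Ideal A} (hI : I ^ 2 = ⊥) {U g : Matrix (Fin n) (Fin n) A}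
    (hU' : IsUnit (hU U)) (hg : ∀ z, uCoeff (gᵀ * U * g - U) z ∈ I) (hd : g.det - 1 ∈ I) :
    ∃ Y, MatIn I Y ∧ IsAltMat (upper (gᵀ * U * g - U) + (U + Uᵀ) * Y) ∧ ∑ i, Y i i = 1 - g.det := by
  refine exists_correction_gen hn hI hU' hg (by rw [← neg_sub]; exact I.neg_mem hd) ?_
  have e := hU_congr hn U gᵀ
  rw [Matrix.transpose_transpose, Matrix.det_transpose] at e
  rw [e, ← mul_assoc, ← mul_pow, show (1 + (1 - g.det)) * g.det = 1 by
    linear_combination -(mul_eq_zero_of_sq hI hd hd), one_pow, one_mul]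

theorem exists_sorth'_lift (hn : Odd n) {I : Ideal A} (hI : I ^ 2 = ⊥) {U g : Matrix (Fin n) (Fin n) A}
    (hU' : IsUnit (hU U)) (hg : ∀ z, uCoeff (gᵀ * U * g - U) z ∈ I) (hd : g.det - 1 ∈ I) :
    ∃ Y, MatIn I Y ∧ IsOrthMat U (g * (1 + Y)) ∧ (g * (1 + Y)).det = 1 := by
  obtain ⟨Y, hY, halt, htr⟩ := exists_correction hn hI hU' hg hd
  refine ⟨Y, hY, isOrthMat_mul_one_add hI hg hY halt, ?_⟩
  rw [Matrix.det_mul, det_one_add hI hY, htr]
  linear_combination -(mul_eq_zero_of_sq hI hd hd)

end QuadSch
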