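import Groth.Agent.QuadSch.GPinAlg
import Groth.Agent.QuadSch.Lift
import Groth.Agent.QuadCliff.Global

/-!
Lifting elements of the Clifford group along square-zero extensions.
-/

universe u

open TensorProduct CliffordAlgebra QuadCliff

namespace QuadSch

section General

variable {R : Type u} [CommRing R] {M : Type u} [AddCommGroup M] [Module R M] {q : QuadraticForm R M} {n : ℕ}
  (b : Module.Basis (Fin n) R M)

include b in
theorem exists_fin_basis : Nonempty (Module.Basis (Finset (Fin n)) R (CliffordAlgebra q)) := by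
  obtain ⟨B, hB⟩ := exists_toExterior (Q := q) b
  exact ⟨b.ExteriorAlgebra.map (changeFormEquiv hB).symm⟩

/-- Vectors over an extension: commutation may be checked on the image of `M`. -/
theorem comm_of_toBC [Module.Free R M] {A : Type u} [CommRing A] [Algebra R A]
    {y : CliffordAlgebra (QuadGrp.baseChangeForm A q)}
    (h : ∀ m, toBC A q (ι q m) * y = y * toBC A q (ι q m)) (v : A ⊗[R] M) :
    ι _ v * y = y * ι _ v := by
  induction v using TensorProduct.induction_on with
  | zero => simp
  | add v w hv hw => rw [map_add, add_mul, mul_add, hv, hw]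
  | tmul a m =>
    rw [show a ⊗ₜ[R] m = a • ((1 : A) ⊗ₜ[R] m) by rw [TensorProduct.smul_tmul', smul_eq_mul, mul_one],
      map_smul, smul_mul_assoc, mul_smul_comm, ← toBC_ι, h]

include b in
theorem smul_top_of_toBC_eq_zero [Module.Free R M] (I : Ideal R) {x : CliffordAlgebra q}
    (h : toBC (R ⧸ I) q x = 0) : x ∈ I • (⊤ : Submodule R (CliffordAlgebra q)) := by
  obtain ⟨c⟩ := exists_fin_basis (q := q) b
  rw [← c.sum_repr x]
  refine Submodule.sum_mem _ fun a _ => Submodule.smul_mem_smul ?_ Submodule.mem_top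
  have e : toBC (R ⧸ I) q x = ∑ a, algebraMap R (R ⧸ I) (c.repr x a) • bcBasis q c (R ⧸ I) a := by
    conv_lhs => rw [← c.sum_repr x, map_sum]
    exact Finset.sum_congr rfl fun a _ => by rw [map_smul, bcBasis_apply, algebraMap_smul]
  rw [e] at h
  have h' := congrArg (fun z => (bcBasis q c (R ⧸ I)).repr z a) h
  simp only [Module.Basis.repr_sum_self, map_zero, Finsupp.zero_apply] at h'
  exact Ideal.Quotient.eq_zero_iff_mem.mp h'

theorem toBC_eq_zero_of_smul_top [Module.Free R M] {I : Ideal R} {x : CliffordAlgebra q}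
    (h : x ∈ I • (⊤ : Submodule R (CliffordAlgebra q))) : toBC (R ⧸ I) q x = 0 := by
  refine Submodule.smul_induction_on h (fun a ha y _ => ?_) fun y z hy hz => by rw [map_add, hy, hz, add_zero]
  rw [Algebra.smul_def, map_mul, AlgHom.commutes, IsScalarTower.algebraMap_apply R (R ⧸ I),
    Ideal.Quotient.algebraMap_eq, Ideal.Quotient.eq_zero_iff_mem.mpr ha, map_zero, zero_mul]

variable (g : M ≃ₗ[R] M)

/-- The defect of a conjugation relation. -/
noncomputable def defect (x : CliffordAlgebra q) : M →ₗ[R] CliffordAlgebra q :=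
  (LinearMap.mulLeft R x).comp (ι q) - (LinearMap.mulRight R x).comp ((ι q).comp g.toLinearMap)

theorem defect_apply (x : CliffordAlgebra q) (v : M) : defect g x v = x * ι q v - ι q (g v) * x := rfl

theorem defect_smul (r : R) (x : CliffordAlgebra q) (v : M) : defect g (r • x) v = r • defect g x v := by
  rw [defect_apply, defect_apply, smul_mul_assoc, mul_smul_comm, smul_sub]

theorem toBC_defect [Module.Free R M] {A : Type u} [CommRing A] [Algebra R A] (x : CliffordAlgebra q) (v : M) :
    toBC A q (defect g x v) = defect (g.baseChange R A M M) (toBC A q x) (1 ⊗ₜ v) := by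
  rw [defect_apply, defect_apply, map_sub, map_mul, map_mul, toBC_ι, toBC_ι, LinearEquiv.baseChange_tmul]

/-- The local solution of the conjugation equation. -/
theorem exists_conj_local [IsLocalRing R] [Module.Free R M]
    (hev : Even n → QuadGrp.IsRegular q) (hodd : Odd n → QuadGrp.IsSemiregular b (LinearEquiv.refl R R) q)
    (hg : g ∈ QuadGrp.O q) (hdet : Odd n → LinearMap.det g.toLinearMap = 1)
    {I : Ideal R} (hI : I ^ 2 = ⊥) {X : CliffordAlgebra q}
    (hX : ∀ v, defect g X v ∈ I • (⊤ : Submodule R (CliffordAlgebra q))) :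
    ∃ x, (∀ v, defect g x v = 0) ∧ x - X ∈ I • (⊤ : Submodule R (CliffordAlgebra q)) := by
  haveI : Nontrivial (R ⧸ I) := Ideal.Quotient.nontrivial_iff.mpr fun ht => by
    rw [ht, Ideal.top_pow] at hI; exact top_ne_bot hI
  haveI : IsLocalRing (R ⧸ I) := IsLocalRing.of_surjective' (Ideal.Quotient.mk I) Ideal.Quotient.mk_surjective
  -- a unit realising `g`, and the commutation of `u⁻¹ X` modulo `I`
  have main : ∀ u : (CliffordAlgebra q)ˣ, (∀ v, (u : CliffordAlgebra q) * ι q v = ι q (g v) * u) →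
      ∀ v : (R ⧸ I) ⊗[R] M, ι _ v * toBC (R ⧸ I) q (↑u⁻¹ * X) = toBC (R ⧸ I) q (↑u⁻¹ * X) * ι _ v := by
    intro u hu v
    refine comm_of_toBC (fun m => ?_) v
    have h1 : toBC (R ⧸ I) q (X * ι q m) = toBC (R ⧸ I) q (ι q (g m) * X) := by
      rw [← sub_eq_zero, ← map_sub]; exact toBC_eq_zero_of_smul_top (hX m)
    rw [← map_mul, ← map_mul, ← mul_assoc,
      show ι q m * (↑u⁻¹ : CliffordAlgebra q) = ↑u⁻¹ * ι q (g m) by
        rw [Units.eq_inv_mul_iff_mul_eq, ← mul_assoc, hu, Units.mul_inv_cancel_right],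
      mul_assoc, mul_assoc, map_mul, map_mul (toBC (R ⧸ I) q) (↑u⁻¹) (X * ι q m), h1]
  rcases Nat.even_or_odd' n with ⟨k, rfl | rfl⟩
  · have he : Even (2 * k) := ⟨k, two_mul k⟩
    obtain ⟨η, hη⟩ := exists_eta k q b (hev he)
    obtain ⟨u, hu⟩ := hη.exists_unit b (hev he) g hg
    obtain ⟨η', hη'⟩ := exists_eta k _ (b.baseChange (R ⧸ I)) (isRegular_baseChange _ _ b (hev he))
    obtain ⟨r, hr⟩ := hη'.center_eq (b.baseChange (R ⧸ I)) (isRegular_baseChange _ _ b (hev he)) _ (main u hu)
    obtain ⟨r, rfl⟩ := Ideal.Quotient.mk_surjective r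
    refine ⟨r • (u : CliffordAlgebra q), fun v => by
      rw [defect_smul, defect_apply, hu, sub_self, smul_zero], ?_⟩
    have : r • (u : CliffordAlgebra q) - X = (u : CliffordAlgebra q) * (algebraMap R _ r - ↑u⁻¹ * X) := by
      rw [mul_sub, Units.mul_inv_cancel_left, ← Algebra.commutes, ← Algebra.smul_def]
    rw [this]
    refine smul_top_of_toBC_eq_zero b I ?_
    rw [map_mul, map_sub, AlgHom.commutes, IsScalarTower.algebraMap_apply R (R ⧸ I), Ideal.Quotient.algebraMap_eq,
      show toBC (R ⧸ I) q (↑u⁻¹ * X) = _ from hr, sub_self, mul_zero]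
  · have ho : Odd (2 * k + 1) := ⟨k, rfl⟩
    have H := exists_oddData b (hodd ho)
    obtain ⟨z, Δ, hzo, hzc, hΔ, hzz, -⟩ := H.central
    obtain ⟨u, -, hu⟩ := H.exists_even_conj hzo hzc hΔ hzz ho b g hg (hdet ho)
    have H' := exists_oddData (b.baseChange (R ⧸ I)) (isSemiregular_baseChange (R ⧸ I) b (hodd ho))
    have hzc' : ∀ y, (toBC (R ⧸ I) q z) * y = y * (toBC (R ⧸ I) q z) := fun y => by
      refine (mul_comm_of_ι (fun v => ?_) y).symm
      exact comm_of_toBC (fun m => by rw [← map_mul, ← map_mul, hzc]) v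
    obtain ⟨r, s, hrs⟩ := H'.center_mem (z := (toBC (R ⧸ I) q z)) (Δ := algebraMap R (R ⧸ I) Δ) (toBC_mem_evenOdd _ _ hzo) hzc'
      (hΔ.map _) (by rw [← map_mul, hzz, AlgHom.commutes, ← IsScalarTower.algebraMap_apply])
      (mul_comm_of_ι (main u hu))
    obtain ⟨r, rfl⟩ := Ideal.Quotient.mk_surjective r
    obtain ⟨s, rfl⟩ := Ideal.Quotient.mk_surjective s
    let y : CliffordAlgebra q := algebraMap R _ r + s • z
    have hy : ∀ x, y * x = x * y := fun x => by
      simp only [y, add_mul, mul_add, Algebra.commutes, smul_mul_assoc, mul_smul_comm, hzc]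
    refine ⟨(u : CliffordAlgebra q) * y, fun v => ?_, ?_⟩
    · rw [defect_apply, mul_assoc, hy, ← mul_assoc, hu, mul_assoc, sub_self]
    rw [show (u : CliffordAlgebra q) * y - X = (u : CliffordAlgebra q) * (y - ↑u⁻¹ * X) by
      rw [mul_sub, Units.mul_inv_cancel_left]]
    refine smul_top_of_toBC_eq_zero b I ?_
    have hTy : (toBC (R ⧸ I) q y) = toBC (R ⧸ I) q (↑u⁻¹ * X) := by
      rw [hrs]
      simp only [y, map_add, map_smul, AlgHom.commutes]
      rw [IsScalarTower.algebraMap_apply R (R ⧸ I), Ideal.Quotient.algebraMap_eq, ← Ideal.Quotient.algebraMap_eq,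
        algebraMap_smul]
    show toBC (R ⧸ I) q _ = 0
    rw [map_mul, map_sub, hTy, sub_self, mul_zero]

end General

section Global

variable {A : Type u} [CommRing A] {N : Type u} [AddCommGroup N] [Module A N] [Module.Free A N]
  {q : QuadraticForm A N} {n : ℕ} (b : Module.Basis (Fin n) A N)

/-- Elements of `I C` in a localisation come from `I C`. -/
theorem exists_smul_eq_of_smul_top (S : Submonoid A) (B : Type u) [CommRing B] [Algebra A B] [IsLocalization S B]
    (I : Ideal A) {y : CliffordAlgebra (QuadGrp.baseChangeForm B q)}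
    (hy : y ∈ I.map (algebraMap A B) • (⊤ : Submodule B (CliffordAlgebra (QuadGrp.baseChangeForm B q)))) :
    ∃ z ∈ I • (⊤ : Submodule A (CliffordAlgebra q)), ∃ t ∈ S, algebraMap A B t • y = toBC B q z := by
  refine Submodule.smul_induction_on hy (fun a ha y _ => ?_) ?_
  · obtain ⟨⟨⟨i, hi⟩, ⟨s, hs⟩⟩, hsi⟩ := (IsLocalization.mem_map_algebraMap_iff S B).mp ha
    obtain ⟨w, t, ht, htw⟩ := exists_smul_eq B q S y
    refine ⟨i • w, Submodule.smul_mem_smul hi Submodule.mem_top, s * t, S.mul_mem hs ht, ?_⟩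
    rw [map_smul, ← algebraMap_smul B i (toBC B q w), ← htw, smul_smul, smul_smul, map_mul]
    congr 1
    rw [← hsi]
    show algebraMap A B s * algebraMap A B t * a = a * algebraMap A B s * algebraMap A B t
    ring
  · rintro y y' ⟨z, hz, t, ht, h⟩ ⟨z', hz', t', ht', h'⟩
    refine ⟨t' • z + t • z', Submodule.add_mem _ (Submodule.smul_mem _ _ hz) (Submodule.smul_mem _ _ hz'),
      t * t', S.mul_mem ht ht', ?_⟩
    rw [map_add, map_smul, map_smul, ← h, ← h', ← algebraMap_smul B t', ← algebraMap_smul B t (algebraMap A B t' • y'),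
      smul_smul, smul_smul, smul_add, map_mul, mul_comm (algebraMap A B t') (algebraMap A B t)]

/-- The global solution of the conjugation equation. -/
theorem exists_conj (g : N ≃ₗ[A] N)
    (hev : Even n → QuadGrp.IsRegular q) (hodd : Odd n → QuadGrp.IsSemiregular b (LinearEquiv.refl A A) q)
    (hg : g ∈ QuadGrp.O q) (hdet : Odd n → LinearMap.det g.toLinearMap = 1)
    {I : Ideal A} (hI : I ^ 2 = ⊥) {X : CliffordAlgebra q}
    (hX : ∀ v, defect g X v ∈ I • (⊤ : Submodule A (CliffordAlgebra q))) :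
    ∃ x, (∀ v, defect g x v = 0) ∧ x - X ∈ I • (⊤ : Submodule A (CliffordAlgebra q)) := by
  let J : Ideal A :=
    { carrier := {s | ∃ x, (∀ v, defect g x v = 0) ∧ x - s • X ∈ I • (⊤ : Submodule A (CliffordAlgebra q))}
      add_mem' := by
        rintro s t ⟨x, hx, hx'⟩ ⟨y, hy, hy'⟩
        refine ⟨x + y, fun v => ?_, ?_⟩
        · have hx0 := hx v; have hy0 := hy v
          rw [defect_apply] at hx0 hy0 ⊢
          rw [add_mul, mul_add, add_sub_add_comm, hx0, hy0, add_zero]
        · rw [add_smul, add_sub_add_comm]; exact Submodule.add_mem _ hx' hy'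
      zero_mem' := ⟨0, fun v => by simp [defect_apply], by simp⟩
      smul_mem' := by
        rintro a s ⟨x, hx, hx'⟩
        exact ⟨a • x, fun v => by rw [defect_smul, hx, smul_zero], by
          rw [smul_assoc, ← smul_sub]; exact Submodule.smul_mem _ _ hx'⟩ }
  suffices h1 : (1 : A) ∈ J by
    obtain ⟨x, hx, hx'⟩ := h1
    exact ⟨x, hx, by rwa [one_smul] at hx'⟩
  rw [← Ideal.eq_top_iff_one]
  by_contra hne
  obtain ⟨p, hp, hle⟩ := Ideal.exists_le_maximal J hne
  haveI := hp.isPrime
  let B := Localization.AtPrime p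
  have hIB : I.map (algebraMap A B) ^ 2 = ⊥ := by rw [← Ideal.map_pow, hI, Ideal.map_bot]
  have hTI : ∀ z ∈ I • (⊤ : Submodule A (CliffordAlgebra q)),
      toBC B q z ∈ I.map (algebraMap A B) • (⊤ : Submodule B (CliffordAlgebra (QuadGrp.baseChangeForm B q))) := by
    intro z hz
    refine Submodule.smul_induction_on hz (fun a ha w _ => ?_) fun w w' h h' => by
      rw [map_add]; exact Submodule.add_mem _ h h'
    rw [map_smul, ← algebraMap_smul B a]
    exact Submodule.smul_mem_smul (Ideal.mem_map_of_mem _ ha) Submodule.mem_top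
  have hX' : ∀ v, defect (g.baseChange A B N N) (toBC B q X) v ∈
      I.map (algebraMap A B) • (⊤ : Submodule B (CliffordAlgebra (QuadGrp.baseChangeForm B q))) := by
    intro v
    induction v using TensorProduct.induction_on with
    | zero => rw [map_zero]; exact Submodule.zero_mem _
    | add v w hv hw => rw [map_add]; exact Submodule.add_mem _ hv hw
    | tmul a m =>
      rw [show a ⊗ₜ[A] m = a • ((1 : B) ⊗ₜ[A] m) by rw [TensorProduct.smul_tmul', smul_eq_mul, mul_one],
        map_smul, ← toBC_defect]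
      exact Submodule.smul_mem _ _ (hTI _ (hX m))
  obtain ⟨x', hx', hxX⟩ := exists_conj_local (b.baseChange B) (g.baseChange A B N N)
    (fun h => isRegular_baseChange _ _ b (hev h)) (fun h => isSemiregular_baseChange B b (hodd h))
    (baseChange_mem_O B q g hg) (fun h => by rw [det_baseChange B b g, hdet h, map_one]) hIB hX'
  obtain ⟨x, s, hs, hxs⟩ := exists_smul_eq B q p.primeCompl x'
  have hLx : ∀ i, ∃ t ∈ p.primeCompl, t • defect g x (b i) = 0 := fun i => by
    refine exists_smul_eq_zero B q p.primeCompl ?_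
    rw [toBC_defect, ← hxs, defect_smul, hx', smul_zero]
  choose t ht htx using hLx
  obtain ⟨z, hz, t₁, ht₁, htz⟩ := exists_smul_eq_of_smul_top p.primeCompl B I
    (Submodule.smul_mem _ (algebraMap A B s) hxX)
  obtain ⟨t₂, ht₂, htz₂⟩ := exists_smul_eq_zero B q p.primeCompl (x := t₁ • (x - s • X) - z) (by
    rw [map_sub, map_smul, map_sub, map_smul, ← htz, ← hxs, ← algebraMap_smul B t₁, ← algebraMap_smul B s (toBC B q X),
      smul_sub (algebraMap A B s), sub_self])
  let T := (∏ i, t i) * (t₂ * t₁)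
  have hT : T ∈ p.primeCompl :=
    p.primeCompl.mul_mem (Submonoid.prod_mem _ fun i _ => ht i) (p.primeCompl.mul_mem ht₂ ht₁)
  have hmem : T * s ∈ J := by
    refine ⟨T • x, ?_, ?_⟩
    · have : defect g (T • x) = 0 := b.ext fun i => by
        rw [defect_smul, LinearMap.zero_apply]
        obtain ⟨c, hc⟩ : ∃ c, T = c * t i := by
          refine ⟨(∏ j ∈ Finset.univ.erase i, t j) * (t₂ * t₁), ?_⟩
          show (∏ j, t j) * _ = _
          rw [← Finset.mul_prod_erase _ _ (Finset.mem_univ i)]
          ring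
        rw [hc, mul_smul, htx, smul_zero]
      exact fun v => LinearMap.congr_fun this v
    · rw [mul_smul T s X, ← smul_sub]
      have h2 : t₂ • t₁ • (x - s • X) ∈ I • (⊤ : Submodule A (CliffordAlgebra q)) := by
        have := htz₂
        rw [smul_sub, sub_eq_zero] at this
        rw [this]; exact Submodule.smul_mem _ _ hz
      rw [show T = (∏ i, t i) * (t₂ * t₁) from rfl, mul_smul, mul_smul]
      exact Submodule.smul_mem _ _ h2
  exact p.primeCompl.mul_mem hT hs (hle hmem)

theorem det_eq_one_of_conj {m : ℕ} (b : Module.Basis (Fin (2 * m + 1)) A N)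
    (hQ : QuadGrp.IsSemiregular b (LinearEquiv.refl A A) q) (g : N ≃ₗ[A] N) (hg : g ∈ QuadGrp.O q)
    (u : (CliffordAlgebra q)ˣ) (hu : ∀ v, (u : CliffordAlgebra q) * ι q v = ι q (g v) * u) :
    LinearMap.det g.toLinearMap = 1 := by
  refine sub_eq_zero.mp (eq_zero_of_forall_atPrime fun p hp => ?_)
  have H := exists_oddData (b.baseChange (Localization.AtPrime p)) (isSemiregular_baseChange _ b hQ)
  obtain ⟨z, Δ, hzo, hzc, hΔ, hzz, -⟩ := H.central
  have := H.det_of_conj hzo hzc hΔ hzz ⟨m, rfl⟩ (b.baseChange _) _ (baseChange_mem_O _ q g hg)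
    (u := Units.map (toBC (Localization.AtPrime p) q).toRingHom.toMonoidHom u) (baseChange_conj p g _ hu)
  rw [det_baseChange _ b g] at this
  rw [map_sub, map_one, this, sub_self]

end Global

end QuadSch
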