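import Groth.Agent.QuadSch.GPinLift

/-!
Smoothness of the Clifford group scheme of a non-degenerate form on a free module.
-/

universe u

open TensorProduct CliffordAlgebra QuadCliff AlgebraicGeometry CategoryTheory
open scoped Matrix

namespace QuadSch

variable {R : Type u} [CommRing R] {n : ℕ} {Q : QuadraticForm R (Fin n → R)}
  (hQ : QuadGrp.IsNondeg (Pi.basisFun R (Fin n)) (LinearEquiv.refl R R) Q)

include hQ

theorem nondeg_baseChange (A : Type u) [CommRing A] [Algebra R A] :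
    (Even n → QuadGrp.IsRegular (QuadGrp.baseChangeForm A Q)) ∧
      (Odd n → QuadGrp.IsSemiregular ((Pi.basisFun R (Fin n)).baseChange A) (LinearEquiv.refl A A)
        (QuadGrp.baseChangeForm A Q)) :=
  ⟨fun h => isRegular_baseChange _ _ (Pi.basisFun R (Fin n)) (hQ.1 h),
    fun h => isSemiregular_baseChange A (Pi.basisFun R (Fin n)) (hQ.2 h)⟩

theorem det_toLinearMap_eq_one (ho : Odd n) {A : Type u} [CommRing A] [Algebra R A]
    (g : (A ⊗[R] (Fin n → R)) ≃ₗ[A] (A ⊗[R] (Fin n → R))) (hg : g ∈ QuadGrp.O (QuadGrp.baseChangeForm A Q))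
    (u : (CliffordAlgebra (QuadGrp.baseChangeForm A Q))ˣ)
    (hu : ∀ v, (u : CliffordAlgebra (QuadGrp.baseChangeForm A Q)) * ι (QuadGrp.baseChangeForm A Q) v =
      ι (QuadGrp.baseChangeForm A Q) (g v) * (u : CliffordAlgebra (QuadGrp.baseChangeForm A Q))) :
    LinearMap.det g.toLinearMap = 1 := by
  obtain ⟨m, rfl⟩ := ho
  exact det_eq_one_of_conj ((Pi.basisFun R (Fin (2 * m + 1))).baseChange A)
    ((nondeg_baseChange hQ A).2 ⟨m, rfl⟩) g hg u hu

/-- Lifting the isometry. -/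
theorem exists_isometry_lift {A : Type u} [CommRing A] [Algebra R A] {I : Ideal A} (hI : I ^ 2 = ⊥)
    (g₀ : ((A ⧸ I) ⊗[R] (Fin n → R)) ≃ₗ[A ⧸ I] ((A ⧸ I) ⊗[R] (Fin n → R)))
    (hg₀ : g₀ ∈ QuadGrp.O (QuadGrp.baseChangeForm (A ⧸ I) Q))
    (hd₀ : Odd n → LinearMap.det g₀.toLinearMap = 1) :
    ∃ g : (A ⊗[R] (Fin n → R)) ≃ₗ[A] (A ⊗[R] (Fin n → R)),
      g ∈ QuadGrp.O (QuadGrp.baseChangeForm A Q) ∧ (Odd n → LinearMap.det g.toLinearMap = 1) ∧
      ∀ v, LinearMap.rTensor (Fin n → R) (Ideal.Quotient.mkₐ R I).toLinearMap (g v) =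
        g₀ (LinearMap.rTensor (Fin n → R) (Ideal.Quotient.mkₐ R I).toLinearMap v) := by
  let b := Pi.basisFun R (Fin n)
  let φ := Ideal.Quotient.mkₐ R I
  set G₀ := LinearMap.toMatrix (b.baseChange (A ⧸ I)) (b.baseChange (A ⧸ I)) g₀.toLinearMap with hG₀
  have ho₀ : IsOrthMat ((qMat Q).map (algebraMap R (A ⧸ I))) G₀ :=
    (mem_O_iff (b.baseChange (A ⧸ I)) _ _ (coeffs_baseChange Q (A ⧸ I))).mp hg₀
  choose G₁ hG₁ using fun i j => Ideal.Quotient.mk_surjective (G₀ i j)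
  set U := (qMat Q).map (algebraMap R A) with hU
  have hmap : ∀ D : Matrix (Fin n) (Fin n) A, ∀ z, Ideal.Quotient.mk I (QuadGrpLib.uCoeff D z) =
      QuadGrpLib.uCoeff (D.map (Ideal.Quotient.mk I)) z := by
    intro D z
    induction z using Sym2.ind with
    | h i j => by_cases h : i = j <;> simp [QuadGrpLib.uCoeff, h]
  have hG1m : (Matrix.of G₁).map (Ideal.Quotient.mk I) = G₀ := Matrix.ext fun i j => hG₁ i j
  have hUm : U.map (Ideal.Quotient.mk I) = (qMat Q).map (algebraMap R (A ⧸ I)) := Matrix.ext fun i j => rfl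
  have hg1 : ∀ z, QuadGrpLib.uCoeff ((Matrix.of G₁)ᵀ * U * Matrix.of G₁ - U) z ∈ I := fun z => by
    rw [← Ideal.Quotient.eq_zero_iff_mem, hmap, Matrix.map_sub _ (map_sub _), Matrix.map_mul, Matrix.map_mul,
      Matrix.transpose_map, hG1m, hUm]
    exact congrFun ((isAltMat_iff _).mp ho₀) z
  obtain ⟨Y, hY, ho, hd⟩ : ∃ Y, MatIn I Y ∧ IsOrthMat U (Matrix.of G₁ * (1 + Y)) ∧
      (Odd n → (Matrix.of G₁ * (1 + Y)).det = 1) := by
    rcases Nat.even_or_odd n with he | hodd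
    · obtain ⟨Y, hY, ho⟩ := exists_orth_lift hI ((map_nondeg (algebraMap R A) (nondeg_qMat Q hQ)).1 he) hg1
      exact ⟨Y, hY, ho, fun h => absurd h (Nat.not_odd_iff_even.mpr he)⟩
    · obtain ⟨Y, hY, ho, hd⟩ := exists_sorth'_lift hodd hI ((map_nondeg (algebraMap R A) (nondeg_qMat Q hQ)).2 hodd)
        hg1 (by
          rw [← Ideal.Quotient.eq_zero_iff_mem, map_sub, map_one, RingHom.map_det, RingHom.mapMatrix_apply, hG1m,
            hG₀, LinearMap.det_toMatrix, hd₀ hodd, sub_self])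
      exact ⟨Y, hY, ho, fun _ => hd⟩
  obtain ⟨g, hgdef⟩ : ∃ g, g = (orthEquiv Q hQ A).symm ⟨_, ho⟩ := ⟨_, rfl⟩
  have hgmat : LinearMap.toMatrix (b.baseChange A) (b.baseChange A) g.1.toLinearMap = Matrix.of G₁ * (1 + Y) := by
    have := congrArg Subtype.val ((orthEquiv Q hQ A).apply_symm_apply ⟨_, ho⟩)
    rw [← hgdef] at this
    exact this
  refine ⟨g.1, fun x => congrArg (AlgebraTensorModule.rid R A A) (g.2 x), fun h => ?_, ?_⟩
  · rw [← LinearMap.det_toMatrix (b.baseChange A), hgmat, hd h]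
  have hY0 : ∀ i j, φ ((Matrix.of G₁ * (1 + Y)) i j) = G₀ i j := fun i j => by
    rw [← hG₁ i j]
    exact Ideal.Quotient.eq.mpr (mul_one_add_sub_mem (g := Matrix.of G₁) hY i j)
  have hbasis : ∀ j, LinearMap.rTensor (Fin n → R) φ.toLinearMap (g.1 (b.baseChange A j)) =
      g₀ (b.baseChange (A ⧸ I) j) := fun j => by
    have e1 : g.1 (b.baseChange A j) = ∑ i, (Matrix.of G₁ * (1 + Y)) i j • b.baseChange A i := by
      rw [← hgmat, ← Matrix.toLin_self (b.baseChange A) (b.baseChange A), Matrix.toLin_toMatrix]; rfl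
    have e0 : g₀ (b.baseChange (A ⧸ I) j) = ∑ i, G₀ i j • b.baseChange (A ⧸ I) i := by
      rw [hG₀, ← Matrix.toLin_self (b.baseChange (A ⧸ I)) (b.baseChange (A ⧸ I)), Matrix.toLin_toMatrix]; rfl
    rw [e1, e0, map_sum]
    refine Finset.sum_congr rfl fun i _ => ?_
    rw [← hY0, Module.Basis.baseChange_apply, Module.Basis.baseChange_apply, TensorProduct.smul_tmul',
      LinearMap.rTensor_tmul, TensorProduct.smul_tmul', smul_eq_mul, smul_eq_mul, mul_one, mul_one]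
    rfl
  intro v
  rw [← (b.baseChange A).sum_repr v, map_sum, map_sum, map_sum, map_sum]
  refine Finset.sum_congr rfl fun j _ => ?_
  have hsm : ∀ (a : A) (w : A ⊗[R] (Fin n → R)), LinearMap.rTensor (Fin n → R) φ.toLinearMap (a • w) =
      φ a • LinearMap.rTensor (Fin n → R) φ.toLinearMap w := fun a w => by
    induction w using TensorProduct.induction_on with
    | zero => simp
    | add x y hx hy => rw [smul_add, map_add, map_add, smul_add, hx, hy]
    | tmul c m => simp [TensorProduct.smul_tmul', φ]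
  rw [map_smul, hsm, hbasis, hsm, map_smul]
  congr 2
  simp [b]

omit hQ in
theorem ker_mkₐ {A : Type u} [CommRing A] [Algebra R A] (I : Ideal A) :
    RingHom.ker (Ideal.Quotient.mkₐ R I) = I := Ideal.Quotient.mkₐ_ker R I

omit hQ in
theorem mapBC_eq_zero_of_smul_top {A : Type u} [CommRing A] [Algebra R A] {I : Ideal A}
    {x : CliffordAlgebra (QuadGrp.baseChangeForm A Q)}
    (h : x ∈ I • (⊤ : Submodule A (CliffordAlgebra (QuadGrp.baseChangeForm A Q)))) :
    mapBC Q (Ideal.Quotient.mkₐ R I) x = 0 := by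
  refine Submodule.smul_induction_on h (fun a ha y _ => ?_) fun y z hy hz => by rw [map_add, hy, hz, add_zero]
  rw [mapBC_smul, Ideal.Quotient.mkₐ_eq_mk, Ideal.Quotient.eq_zero_iff_mem.mpr ha, zero_smul]

/-- Lifting elements of the Clifford group. -/
theorem gpin_lift {A : Type u} [CommRing A] [Algebra R A] {I : Ideal A} (hI : I ^ 2 = ⊥)
    (u : ↥(QuadGrp.gpin Q (A ⧸ I))) :
    ∃ w : ↥(QuadGrp.gpin Q A),
      mapBC Q (Ideal.Quotient.mkₐ R I) (w.1 : CliffordAlgebra (QuadGrp.baseChangeForm A Q)) =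
        (u.1 : CliffordAlgebra (QuadGrp.baseChangeForm (A ⧸ I) Q)) := by
  classical
  let b := Pi.basisFun R (Fin n)
  let φ := Ideal.Quotient.mkₐ R I
  obtain ⟨c⟩ := exists_fin_basis (q := Q) b
  have hker : ∀ {x : CliffordAlgebra (QuadGrp.baseChangeForm A Q)}, mapBC Q φ x = 0 →
      x ∈ I • (⊤ : Submodule A (CliffordAlgebra (QuadGrp.baseChangeForm A Q))) := fun {x} h => by
    have := mem_smul_top_of_mapBC Q A φ c h
    rwa [ker_mkₐ] at this
  obtain ⟨g₀, hg₀, hu⟩ := exists_isometry_of_mem_GPin' (b.baseChange (A ⧸ I)) u.2.1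
  obtain ⟨g, hg, hd, hgg⟩ := exists_isometry_lift hQ hI g₀ hg₀ fun ho => det_toLinearMap_eq_one hQ ho g₀ hg₀ u.1 hu
  obtain ⟨X, hX⟩ := mapBC_surjective Q φ Ideal.Quotient.mk_surjective
    (u.1 : CliffordAlgebra (QuadGrp.baseChangeForm (A ⧸ I) Q))
  obtain ⟨X', hX'⟩ := mapBC_surjective Q φ Ideal.Quotient.mk_surjective
    (↑(u.1)⁻¹ : CliffordAlgebra (QuadGrp.baseChangeForm (A ⧸ I) Q))
  have hdef : ∀ v, defect g X v ∈ I • (⊤ : Submodule A (CliffordAlgebra (QuadGrp.baseChangeForm A Q))) := fun v => by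
    refine hker ?_
    rw [defect_apply, map_sub, map_mul, map_mul, mapBC_ι, mapBC_ι, hgg, hX, hu, sub_self]
  obtain ⟨x, hx, hxX⟩ := exists_conj (b.baseChange A) g (nondeg_baseChange hQ A).1 (nondeg_baseChange hQ A).2 hg hd hI hdef
  have hxu : mapBC Q φ x = (u.1 : CliffordAlgebra (QuadGrp.baseChangeForm (A ⧸ I) Q)) := by
    rw [← hX, ← sub_eq_zero, ← map_sub]; exact mapBC_eq_zero_of_smul_top hxX
  obtain ⟨e₀, he₀, h0, h1⟩ := u.2.2
  obtain ⟨a, ha⟩ := Ideal.Quotient.mk_surjective e₀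
  obtain ⟨e, he, hee⟩ : ∃ e : A, IsIdempotentElem e ∧ φ e = e₀ := by
    have hmem : a * a - a ∈ I := by
      rw [← Ideal.Quotient.eq_zero_iff_mem, map_sub, map_mul, ha, he₀.eq, sub_self]
    have h00 := mul_eq_zero_of_sq hI hmem hmem
    refine ⟨3 * a ^ 2 - 2 * a ^ 3, ?_, ?_⟩
    · show _ * _ = _
      linear_combination (4 * a ^ 2 - 4 * a - 3) * h00
    · simp only [φ, Ideal.Quotient.mkₐ_eq_mk, map_sub, map_mul, map_pow, ha, map_ofNat]
      rw [sq, pow_succ, sq, he₀.eq, he₀.eq]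
      ring
  let q := QuadGrp.baseChangeForm A Q
  obtain ⟨y, hy⟩ : ∃ y, y = e • par q 0 x + (1 - e) • par q 1 x := ⟨_, rfl⟩
  have hyu : mapBC Q φ y = (u.1 : CliffordAlgebra (QuadGrp.baseChangeForm (A ⧸ I) Q)) := by
    rw [hy, map_add, mapBC_smul, mapBC_smul, mapBC_par, mapBC_par, hxu, map_sub φ, map_one, hee, ← map_smul, ← map_smul,
      par_of_mem h0, par_of_mem h1, ← add_smul, add_sub_cancel, one_smul]
  have hyc : ∀ v, y * ι q v = ι q (g v) * y := fun v => by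
    have h' := fun i => par_conj (q := q) (sub_eq_zero.mp (hx v)) i
    rw [hy, add_mul, mul_add, smul_mul_assoc, smul_mul_assoc, mul_smul_comm, mul_smul_comm, h' 0, h' 1]
    rfl
  have hyU : IsUnit y := isUnit_of_smul_top hI (y := X')
    (hker (by rw [map_sub, map_mul, hyu, hX', map_one, Units.mul_inv, sub_self]))
    (hker (by rw [map_sub, map_mul, hyu, hX', map_one, Units.inv_mul, sub_self]))
  obtain ⟨w, hw⟩ := hyU
  have hmem : w ∈ QuadGrp.gpin Q A :=
    ⟨QuadCliff.mem_GPin'_of_conj g fun v => by rw [hw]; exact hyc v, (QuadGrp.mem_LH _ w).mpr ⟨e, he, by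
      rw [hw, hy, smul_add, smul_smul, smul_smul, mul_sub, mul_one, he.eq, sub_self, zero_smul, add_zero]
      exact Submodule.smul_mem _ _ (par_mem _ 0 _), by
      rw [hw, hy, smul_add, smul_smul, smul_smul, sub_mul, one_mul, he.eq, sub_self, zero_smul, zero_add]
      exact Submodule.smul_mem _ _ (par_mem _ 1 _)⟩⟩
  exact ⟨⟨w, hmem⟩, (congrArg (mapBC Q φ) hw).trans hyu⟩

open MonObj in
/-- The Clifford group scheme is smooth and affine. -/
theorem smooth_gpinRep {G : Over (Spec (CommRingCat.of R))} [GrpObj G] (D : QuadGrp.GPinRep Q G) :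
    AlgebraicGeometry.Smooth G.hom ∧ IsAffineHom G.hom := by
  obtain ⟨c⟩ := exists_fin_basis (q := Q) (Pi.basisFun R (Fin n))
  have P := gpinPointsEquiv (Pi.basisFun R (Fin n)) c D
  haveI := zeroAlg_finitePresentation (gpinSys Q (Pi.basisFun R (Fin n)) c).rel
  refine ⟨P.smooth_of_lift fun A _ _ I hI y => ?_, P.isAffineHom⟩
  obtain ⟨w, hw⟩ := gpin_lift hQ hI (D.pts (A ⧸ I) y)
  refine ⟨(D.pts A).symm w, (D.pts (A ⧸ I)).injective (Subtype.ext (Units.ext ?_))⟩
  rw [D.natural A (A ⧸ I) (Ideal.Quotient.mkₐ R I) (mapBC Q _) (mapBC_ι Q _) (mapBC_algebraMap Q _),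
    MulEquiv.apply_symm_apply]
  exact hw

end QuadSch
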