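import Groth.Agent.QuadSch.Smooth
import Groth.Agent.QuadCliff.Odd
import Mathlib.FieldTheory.IsAlgClosed.AlgebraicClosure
import Mathlib.RingTheory.AdjoinRoot
import Mathlib.RingTheory.Flat.FaithfullyFlat.Algebra
import Mathlib.RingTheory.Smooth.Flat
import Mathlib.LinearAlgebra.Matrix.Permutation

/-!
A semiregular form of odd rank is split after a faithfully flat finitely presented extension.
-/

universe u v

open QuadGrpLib Matrix TensorProduct

namespace QuadSch

section Forms

variable {R : Type u} [CommRing R] {M : Type v} [AddCommGroup M] [Module R M] {n : ℕ}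
  (b : Module.Basis (Fin n) R M) (q : QuadraticForm R M) {U : Matrix (Fin n) (Fin n) R}

theorem form_eq_sum (hUq : QuadGrp.coeffs b (LinearEquiv.refl R R) q = uCoeff U) (x : M) :
    q x = ∑ a, ∑ c, b.repr x a * b.repr x c * U a c := by
  obtain ⟨B, hB⟩ := QuadGrpLib.exists_lift b q
  have halt : IsAltMat (Matrix.of (fun i j => B (b i) (b j)) - U) := by
    rw [uCoeff_sub_eq, ← hUq, coeffs_eq_uCoeff b q B hB]
  have h0 := sum_quad_eq_zero halt (b.repr x)
  have e : q x = ∑ a, ∑ c, b.repr x a * b.repr x c * B (b a) (b c) := by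
    rw [← hB, LinearMap.BilinMap.toQuadraticMap_apply]
    conv_lhs => rw [← b.sum_repr x]
    simp only [map_sum, map_smul, LinearMap.sum_apply, LinearMap.smul_apply, smul_eq_mul, Finset.mul_sum]
    refine Finset.sum_comm.trans ?_
    exact Finset.sum_congr rfl fun a _ => Finset.sum_congr rfl fun c _ => by ring
  rw [e, ← sub_eq_zero, ← h0]
  simp only [Matrix.sub_apply, Matrix.of_apply, mul_sub, Finset.sum_sub_distrib]

theorem sum_congr_mat (U g : Matrix (Fin n) (Fin n) R) (x : Fin n → R) :
    ∑ a, ∑ c, (g *ᵥ x) a * (g *ᵥ x) c * U a c = ∑ a, ∑ c, x a * x c * (gᵀ * U * g) a c := by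
  have h : ∀ (D : Matrix (Fin n) (Fin n) R) (y : Fin n → R),
      ∑ a, ∑ c, y a * y c * D a c = y ⬝ᵥ (D *ᵥ y) := fun D y => by
    simp only [dotProduct, Matrix.mulVec, Finset.mul_sum]
    exact Finset.sum_congr rfl fun a _ => Finset.sum_congr rfl fun c _ => by ring
  rw [h, h, ← Matrix.mulVec_mulVec, ← Matrix.mulVec_mulVec, Matrix.dotProduct_mulVec x gᵀ, Matrix.vecMul_transpose]

theorem isAltMat_of_sum_eq_zero {D : Matrix (Fin n) (Fin n) R} (h : ∀ x : Fin n → R, ∑ a, ∑ c, x a * x c * D a c = 0) :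
    IsAltMat D := by
  classical
  have h1 : ∀ i, D i i = 0 := fun i => by
    have := h (Pi.single i 1)
    simpa [Pi.single_apply, Finset.sum_ite_eq'] using this
  refine ⟨h1, fun i j => ?_⟩
  by_cases hij : i = j
  · subst hij; rw [h1, neg_zero]
  have := h (Pi.single i 1 + Pi.single j 1)
  simp only [Pi.add_apply, add_mul, mul_add, Finset.sum_add_distrib] at this
  simp [Pi.single_apply, Finset.sum_ite_eq', h1] at this
  linear_combination this

end Forms

section Split

/-- Indices of the hyperbolic pairs of an odd split form. -/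
def oddPair (m : ℕ) : Fin m × Fin 2 ≃ Fin (2 * m) := finProdFinEquiv.trans (finCongr (mul_comm m 2))

theorem split_odd_apply (R : Type u) [CommRing R] (m : ℕ) (x : Fin (2 * m + 1) → R) :
    QuadGrp.splitForm R (2 * m + 1) x =
      x 0 * x 0 + ∑ i : Fin m, x (oddPair m (i, 0)).succ * x (oddPair m (i, 1)).succ := by
  have hm : (2 * m + 1) / 2 = m := by omega
  rw [QuadGrp.splitForm, dif_pos (by omega), QuadraticMap.add_apply, QuadraticMap.sum_apply, add_comm]
  congr 1
  refine Fintype.sum_equiv (finCongr hm) _ _ fun i => ?_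
  simp only [QuadraticMap.linMulLin_apply, LinearMap.proj_apply]
  congr 2 <;> ext <;> simp [oddPair, finProdFinEquiv] <;> omega

theorem polar_split_odd (R : Type u) [CommRing R] (m : ℕ) (x : Fin (2 * m + 1) → R) (j : Fin m) (d : Fin 2) :
    QuadraticMap.polar (QuadGrp.splitForm R (2 * m + 1)) x (Pi.single (oddPair m (j, d)).succ 1) =
      x (oddPair m (j, Equiv.swap 0 1 d)).succ := by
  classical
  have h0 : (Pi.single (oddPair m (j, d)).succ (1 : R) : Fin (2 * m + 1) → R) 0 = 0 :=
    Pi.single_eq_of_ne (Fin.succ_ne_zero _).symm _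
  simp only [QuadraticMap.polar, split_odd_apply, Pi.add_apply, h0, add_zero, mul_zero, zero_add]
  rw [add_sub_add_left_eq_sub, ← Finset.sum_sub_distrib, ← Finset.sum_sub_distrib, Finset.sum_eq_single (M := R) j]
  · fin_cases d <;> simp <;> ring
  · intro i _ hi
    simp [Pi.single_apply, hi]
  · simp

theorem polar_split_zero (R : Type u) [CommRing R] (m : ℕ) (x : Fin (2 * m + 1) → R) :
    QuadraticMap.polar (QuadGrp.splitForm R (2 * m + 1)) x (Pi.single 0 1) = 2 * x 0 := by
  classical
  simp [QuadraticMap.polar, split_odd_apply]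
  ring

theorem isUnit_halfDisc_split (R : Type u) [CommRing R] (m : ℕ) :
    IsUnit (hU (qMat (QuadGrp.splitForm R (2 * m + 1)))) := by
  classical
  let b := Pi.basisFun R (Fin (2 * m + 1))
  set q := QuadGrp.splitForm R (2 * m + 1) with hq
  set U := qMat q with hUdef
  have hUq := coeffs_qMat q
  have hdiag : ∀ i, U i i = q (Pi.single i 1) := fun i => by
    have := congrFun hUq (Sym2.mk i i)
    simp [QuadGrp.coeffs_mk, uCoeff] at this
    exact this.symm
  have hoff : ∀ i j, i ≠ j → U i j + U j i = QuadraticMap.polar q (Pi.single i 1) (Pi.single j 1) := fun i j hij => by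
    have := congrFun hUq (Sym2.mk i j)
    simp [QuadGrp.coeffs_mk, uCoeff, hij] at this
    exact this.symm
  have hpol : ∀ i j, (U + Uᵀ) i j = QuadraticMap.polar q (Pi.single i 1) (Pi.single j 1) := fun i j => by
    by_cases hij : i = j
    · subst hij
      rw [Matrix.add_apply, Matrix.transpose_apply, hdiag, QuadraticMap.polar_self, two_nsmul]
    · exact hoff i j hij
  rw [hU_of_row ⟨m, rfl⟩ U 0 (fun j hj => by
    rw [hoff 0 j hj.symm, QuadraticMap.polar_comm, hq, polar_split_zero, Pi.single_eq_of_ne hj.symm, mul_zero])]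
  refine IsUnit.mul ?_ ?_
  · rw [hdiag, hq, split_odd_apply]
    simp
  · rw [Matrix.adjugate_fin_succ_eq_det_submatrix]
    refine ((isUnit_one.neg).pow _).mul ?_
    let σ : Equiv.Perm (Fin (2 * m)) :=
      (oddPair m).symm.trans ((Equiv.prodCongr (Equiv.refl _) (Equiv.swap 0 1)).trans (oddPair m))
    have : ((U + Uᵀ).submatrix (Fin.succAbove 0) (Fin.succAbove 0)) = σ.permMatrix R := by
      ext a c
      rw [Matrix.submatrix_apply, Fin.succAbove_zero, hpol]
      obtain ⟨⟨i, d⟩, rfl⟩ := (oddPair m).surjective a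
      obtain ⟨⟨j, d'⟩, rfl⟩ := (oddPair m).surjective c
      rw [hq, polar_split_odd]
      have e : ∀ t t' : Fin 2, Equiv.swap 0 1 t = t' ↔ t = Equiv.swap 0 1 t' := by decide
      simp [σ, Pi.single_apply, Equiv.Perm.permMatrix, PEquiv.toMatrix_apply, eq_comm]
      fin_cases d <;> fin_cases d' <;> simp
    rw [this, Matrix.det_permutation]
    exact ((Equiv.Perm.sign σ).isUnit).map (Int.castRingHom R)

end Split

section Closed

variable {K : Type u} [Field K] [IsAlgClosed K]

/-- A regular form of even rank over an algebraically closed field is hyperbolic. -/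
theorem exists_hyperbolic : ∀ (k : ℕ) {V : Type u} [AddCommGroup V] [Module K V] (q : QuadraticForm K V)
    (_ : Module.Basis (Fin (2 * k)) K V), QuadGrp.IsRegular q →
      ∃ e : (Fin k × Fin 2 → K) ≃ₗ[K] V, ∀ x, q (e x) = ∑ i, x (i, 0) * x (i, 1) := by
  intro k
  induction k with
  | zero =>
    intro V _ _ q b _
    refine ⟨(LinearEquiv.funCongrLeft K K
      ⟨fun i => i.elim0, fun p => p.1.elim0, fun i => i.elim0, fun p => p.1.elim0⟩).trans b.equivFun.symm, fun x => ?_⟩
    have : (LinearEquiv.funCongrLeft K K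
      (⟨fun i => i.elim0, fun p => p.1.elim0, fun i => i.elim0, fun p => p.1.elim0⟩ : Fin (2 * 0) ≃ Fin 0 × Fin 2)) x = 0 :=
        funext fun i => absurd i.2 (by omega)
    rw [LinearEquiv.trans_apply, this]
    simp
  | succ k ih =>
    intro V _ _ q b hq
    have := Module.Finite.of_basis b
    -- an isotropic vector
    obtain ⟨v, hv0, hqv⟩ : ∃ v, v ≠ 0 ∧ q v = 0 := by
      let i₀ : Fin (2 * (k + 1)) := ⟨0, by omega⟩
      let i₁ : Fin (2 * (k + 1)) := ⟨1, by omega⟩
      by_cases h1 : q (b i₁) = 0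
      · exact ⟨_, b.ne_zero i₁, h1⟩
      obtain ⟨t, ht⟩ := IsAlgClosed.exists_root
        (Polynomial.C (q (b i₁)) * Polynomial.X ^ 2 + Polynomial.C (QuadraticMap.polar q (b i₀) (b i₁)) * Polynomial.X +
          Polynomial.C (q (b i₀))) (by rw [Polynomial.degree_quadratic h1]; decide)
      refine ⟨b i₀ + t • b i₁, fun h => ?_, ?_⟩
      · have := congrArg (fun y => b.repr y i₀) h
        simp [i₀, i₁] at this
      · rw [QuadraticMap.map_add q, QuadraticMap.map_smul, QuadraticMap.polar_smul_right]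
        simp [Polynomial.IsRoot] at ht
        simp only [smul_eq_mul]
        linear_combination ht
    obtain ⟨w₀, hw₀⟩ : ∃ w, QuadraticMap.polar q v w = 1 := by
      obtain ⟨z, hz⟩ : ∃ z, QuadraticMap.polar q v z ≠ 0 := by
        by_contra hall
        push Not at hall
        exact hv0 (hq.1 (LinearMap.ext fun z => by simpa using hall z))
      exact ⟨(QuadraticMap.polar q v z)⁻¹ • z, by
        rw [QuadraticMap.polar_smul_right, smul_eq_mul, inv_mul_cancel₀ hz]⟩
    obtain ⟨w, hw, hqw⟩ : ∃ w, QuadraticMap.polar q v w = 1 ∧ q w = 0 := by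
      refine ⟨w₀ + (-q w₀) • v, ?_, ?_⟩
      · rw [QuadraticMap.polar_add_right, QuadraticMap.polar_smul_right, QuadraticMap.polar_self, hqv, hw₀]
        simp
      · rw [QuadraticMap.map_add q, QuadraticMap.map_smul, QuadraticMap.polar_smul_right, QuadraticMap.polar_comm, hqv, hw₀]
        simp
    have hwv : QuadraticMap.polar q w v = 1 := by rw [QuadraticMap.polar_comm, hw]
    have hvv : QuadraticMap.polar q v v = 0 := by rw [QuadraticMap.polar_self, hqv, smul_zero]
    have hww : QuadraticMap.polar q w w = 0 := by rw [QuadraticMap.polar_self, hqw, smul_zero]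
    let W : Submodule K V :=
      LinearMap.ker (QuadraticMap.polarBilin q v) ⊓ LinearMap.ker (QuadraticMap.polarBilin q w)
    have hW : ∀ z : W, QuadraticMap.polar q v (z : V) = 0 ∧ QuadraticMap.polar q w (z : V) = 0 := fun z =>
      ⟨by simpa using z.2.1, by simpa using z.2.2⟩
    let pr : V →ₗ[K] W := LinearMap.codRestrict W
      (LinearMap.id - (QuadraticMap.polarBilin q w).smulRight v - (QuadraticMap.polarBilin q v).smulRight w)
      (fun y => ⟨by simp [QuadraticMap.polar_sub_right, QuadraticMap.polar_smul_right, hvv, hw],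
        by simp [QuadraticMap.polar_sub_right, QuadraticMap.polar_smul_right, hwv, hww]⟩)
    have hdec : ∀ y : V, y = QuadraticMap.polar q w y • v + QuadraticMap.polar q v y • w + (pr y : V) := fun y => by
      simp [pr]
    let E : V ≃ₗ[K] (K × K) × W := LinearEquiv.ofLinearMap
      (((QuadraticMap.polarBilin q w).prod (QuadraticMap.polarBilin q v)).prod pr)
      (((LinearMap.toSpanSingleton K V v).coprod (LinearMap.toSpanSingleton K V w)).coprod W.subtype)
      (by
        refine LinearMap.ext fun ⟨⟨a, c⟩, z⟩ => ?_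
        have h1 : QuadraticMap.polar q w (a • v + c • w + (z : V)) = a := by
          simp [QuadraticMap.polar_add_right, QuadraticMap.polar_smul_right, hwv, hww, (hW z).2]
        have h2 : QuadraticMap.polar q v (a • v + c • w + (z : V)) = c := by
          simp [QuadraticMap.polar_add_right, QuadraticMap.polar_smul_right, hvv, hw, (hW z).1]
        refine Prod.ext (Prod.ext h1 h2) (Subtype.ext ?_)
        show (a • v + c • w + (z : V)) - QuadraticMap.polar q w (a • v + c • w + (z : V)) • v -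
          QuadraticMap.polar q v (a • v + c • w + (z : V)) • w = (z : V)
        rw [h1, h2]
        abel)
      (LinearMap.ext fun y => by simpa using (hdec y).symm)
    have hrank : Module.finrank K W = 2 * k := by
      have := E.finrank_eq
      rw [Module.finrank_eq_card_basis b, Fintype.card_fin, Module.finrank_prod, Module.finrank_prod,
        Module.finrank_self] at this
      omega
    have hreg : QuadGrp.IsRegular (q.comp W.subtype) := by
      refine ⟨fun z z' h => sub_eq_zero.mp (Subtype.ext ?_), fun f => ?_⟩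
      · refine hq.1 (LinearMap.ext fun y => ?_)
        have h0 := LinearMap.congr_fun h (pr y)
        simp only [QuadraticMap.polarBilin_apply_apply, QuadraticMap.polar, QuadraticMap.comp_apply,
          Submodule.subtype_apply, Submodule.coe_add] at h0
        rw [ZeroMemClass.coe_zero, map_zero, LinearMap.zero_apply, QuadraticMap.polarBilin_apply_apply]
        conv_lhs => rw [hdec y]
        rw [QuadraticMap.polar_add_right, QuadraticMap.polar_add_right, QuadraticMap.polar_smul_right,
          QuadraticMap.polar_smul_right, QuadraticMap.polar_comm q ((z - z' : W) : V) v,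
          QuadraticMap.polar_comm q ((z - z' : W) : V) w, (hW (z - z')).1, (hW (z - z')).2, smul_zero, smul_zero,
          zero_add, zero_add, Submodule.coe_sub, QuadraticMap.polar_sub_left, sub_eq_zero]
        exact h0
      · obtain ⟨y, hy⟩ := hq.2 (f.comp pr)
        refine ⟨pr y, LinearMap.ext fun z => ?_⟩
        have h0 := LinearMap.congr_fun hy (z : V)
        rw [LinearMap.comp_apply, show pr (z : V) = z from Subtype.ext (by simp [pr, (hW z).1, (hW z).2]),
          QuadraticMap.polarBilin_apply_apply] at h0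
        have e1 : QuadraticMap.polar q y (z : V) = QuadraticMap.polar q (pr y : V) (z : V) := by
          conv_lhs => rw [hdec y]
          rw [QuadraticMap.polar_add_left, QuadraticMap.polar_add_left, QuadraticMap.polar_smul_left,
            QuadraticMap.polar_smul_left, (hW z).1, (hW z).2, smul_zero, smul_zero, zero_add, zero_add]
        rw [← h0, e1]
        simp [QuadraticMap.polar]
    obtain ⟨e, he⟩ := ih (q.comp W.subtype) (Module.finBasisOfFinrankEq K W hrank) hreg
    let ι : Fin (k + 1) × Fin 2 → (K × K) × W → K := fun p t =>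
      Fin.cases (if p.2 = 0 then t.1.1 else t.1.2) (fun i => e.symm t.2 (i, p.2)) p.1
    let e' : (Fin (k + 1) × Fin 2 → K) ≃ₗ[K] (K × K) × W :=
      { toFun := fun x => ((x (0, 0), x (0, 1)), e fun p => x (p.1.succ, p.2))
        invFun := fun t p => ι p t
        map_add' := fun x y => Prod.ext rfl (by rw [Prod.snd_add, ← map_add]; rfl)
        map_smul' := fun a x => Prod.ext rfl (by rw [Prod.smul_snd, ← map_smul]; rfl)
        left_inv := fun x => funext fun ⟨i, d⟩ => by
          refine Fin.cases ?_ (fun i => ?_) i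
          · fin_cases d <;> simp [ι]
          · simp [ι]
        right_inv := fun t => by simp [ι] }
    refine ⟨e'.trans E.symm, fun x => ?_⟩
    rw [Fin.sum_univ_succ, LinearEquiv.trans_apply]
    show q (x (0, 0) • v + x (0, 1) • w + (e fun p => x (p.1.succ, p.2) : V)) = _
    rw [← he fun p => x (p.1.succ, p.2), QuadraticMap.comp_apply, Submodule.subtype_apply,
      QuadraticMap.map_add q, QuadraticMap.map_add q, QuadraticMap.polar_add_left, QuadraticMap.map_smul,
      QuadraticMap.map_smul, QuadraticMap.polar_smul_left, QuadraticMap.polar_smul_left,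
      QuadraticMap.polar_smul_left, QuadraticMap.polar_smul_right, hqv, hqw, hw, (hW _).1, (hW _).2]
    simp only [smul_eq_mul]
    ring

theorem exists_congr_split (m : ℕ) (U : Matrix (Fin (2 * m + 1)) (Fin (2 * m + 1)) K) (hUu : IsUnit (hU U))
    (U₀ : Matrix (Fin (2 * m + 1)) (Fin (2 * m + 1)) K)
    (hU₀ : ∀ x : Fin (2 * m + 1) → K, ∑ a, ∑ c, x a * x c * U₀ a c = QuadGrp.splitForm K (2 * m + 1) x) :
    ∃ g : Matrix (Fin (2 * m + 1)) (Fin (2 * m + 1)) K, IsAltMat (gᵀ * U * g - U₀) := by
  classical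
  let b := Pi.basisFun K (Fin (2 * m + 1))
  let B : LinearMap.BilinMap K (Fin (2 * m + 1) → K) K := Matrix.toBilin' U
  let q : QuadraticForm K (Fin (2 * m + 1) → K) := B.toQuadraticMap
  have hUmat : Matrix.of (fun i j => B (b i) (b j)) = U := by
    ext i j
    simp [B, b, Matrix.toBilin'_single]
  have hUq : QuadGrp.coeffs b (LinearEquiv.refl K K) q = uCoeff U := by
    rw [coeffs_eq_uCoeff b q B rfl, hUmat]
  obtain ⟨F⟩ := QuadCliff.exists_oddFrame b (Q := q) (by
    show IsUnit _
    rw [halfDisc_eq_hU b q B rfl, hUmat]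
    exact hUu)
  obtain ⟨s, hs⟩ := IsAlgClosed.exists_eq_mul_self (q F.e)⁻¹
  obtain ⟨f, hf⟩ := exists_hyperbolic m (q.comp (LinearMap.ker F.τ).subtype) F.basis F.regular
  let l : (Fin (2 * m + 1) → K) →ₗ[K] (Fin (2 * m + 1) → K) :=
    (LinearMap.proj 0).smulRight (s • F.e) + (LinearMap.ker F.τ).subtype.comp (f.toLinearMap.comp
      (LinearMap.funLeft K K fun p => (oddPair m p).succ))
  have hl : ∀ x, q (l x) = QuadGrp.splitForm K (2 * m + 1) x := fun x => by
    rw [split_odd_apply]
    show q (x 0 • s • F.e + ((f (fun p => x (oddPair m p).succ) : LinearMap.ker F.τ) : Fin (2 * m + 1) → K)) = _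
    rw [QuadraticMap.map_add q, QuadraticMap.polar_smul_left, QuadraticMap.polar_smul_left,
      F.orth _ (LinearMap.mem_ker.mp (f _).2), smul_zero, smul_zero, add_zero, QuadraticMap.map_smul,
      QuadraticMap.map_smul]
    have hu : q F.e ≠ 0 := F.unit.ne_zero
    congr 1
    · simp only [smul_eq_mul]
      linear_combination -(x 0 * x 0 * q F.e) * hs + (x 0 * x 0) * (inv_mul_cancel₀ hu)
    · exact hf fun p => x (oddPair m p).succ
  refine ⟨LinearMap.toMatrix' l, isAltMat_of_sum_eq_zero fun x => ?_⟩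
  have hr : ∀ y : Fin (2 * m + 1) → K, (b.repr y : Fin (2 * m + 1) → K) = y := fun y => funext fun i => by simp [b]
  have h1 := form_eq_sum b q hUq (l x)
  rw [hl, hr, ← LinearMap.toMatrix'_mulVec, sum_congr_mat] at h1
  simp only [Matrix.sub_apply, mul_sub, Finset.sum_sub_distrib, hU₀, ← h1, sub_self]

end Closed

section Algebra

variable {R : Type u} [CommRing R] {n : ℕ} (U U₀ : Matrix (Fin n) (Fin n) R) (c : R)

/-- The equations `ᵗg U g = U₀`, `det g = c`. -/
noncomputable def congrRel : Option (Sym2 (Fin n)) → MvPolynomial (Fin n × Fin n) R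
  | none => genMat.det - MvPolynomial.C c
  | some z => uCoeff (genMatᵀ * U.map MvPolynomial.C * genMat - U₀.map MvPolynomial.C) z

theorem aeval_congrRel {A : Type u} [CommRing A] [Algebra R A] (x : Fin n × Fin n → A) :
    (∀ r, MvPolynomial.aeval x (congrRel U U₀ c r) = 0) ↔
      (Matrix.of fun i j => x (i, j)).det = algebraMap R A c ∧
      IsAltMat ((Matrix.of fun i j => x (i, j))ᵀ * U.map (algebraMap R A) * (Matrix.of fun i j => x (i, j)) -
        U₀.map (algebraMap R A)) := by
  have key : ∀ z, MvPolynomial.aeval x (congrRel U U₀ c (some z)) =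
      uCoeff ((Matrix.of fun i j => x (i, j))ᵀ * U.map (algebraMap R A) * (Matrix.of fun i j => x (i, j)) -
        U₀.map (algebraMap R A)) z := by
    intro z
    let f : MvPolynomial (Fin n × Fin n) R →ₐ[R] A := MvPolynomial.aeval x
    have h1 : (genMat : Matrix (Fin n) (Fin n) (MvPolynomial (Fin n × Fin n) R)).map f =
        Matrix.of fun i j => x (i, j) := by
      ext i j; simp [genMat, f]
    have h2 : ∀ V : Matrix (Fin n) (Fin n) R, (V.map MvPolynomial.C).map f = V.map (algebraMap R A) := fun V => by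
      ext i j; simp [f]
    have h3 : ∀ D : Matrix (Fin n) (Fin n) (MvPolynomial (Fin n × Fin n) R), f (uCoeff D z) = uCoeff (D.map f) z := by
      intro D
      induction z using Sym2.ind with
      | h i j => by_cases h : i = j <;> simp [uCoeff, h]
    show f _ = _
    rw [congrRel, h3, Matrix.map_sub _ (map_sub f), Matrix.map_mul, Matrix.map_mul, Matrix.transpose_map, h1, h2, h2]
  have key0 : MvPolynomial.aeval x (congrRel U U₀ c none) = (Matrix.of fun i j => x (i, j)).det - algebraMap R A c := by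
    rw [congrRel, map_sub, aeval_det, MvPolynomial.aeval_C]
  refine ⟨fun h => ⟨?_, ?_⟩, fun h r => ?_⟩
  · rw [← sub_eq_zero, ← key0]; exact h none
  · rw [isAltMat_iff]; funext z; rw [← key]; exact h (some z)
  · rcases r with _ | z
    · rw [key0, h.1, sub_self]
    · rw [key]; exact congrFun ((isAltMat_iff _).mp h.2) z

theorem smooth_congrAlg (hn : Odd n) (hU' : IsUnit (hU U)) (hc : IsUnit c) (hcU : c ^ 2 * hU U = hU U₀) :
    (algebraMap R (ZeroAlg (congrRel U U₀ c))).Smooth := by
  refine smooth_zeroAlg _ fun A _ _ I hI x hx => ?_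
  let φ := algebraMap R A
  let g : Matrix (Fin n) (Fin n) A := Matrix.of fun i j => x (i, j)
  obtain ⟨hd, halt⟩ := (aeval_congrRel U U₀ c (A := A ⧸ I) (fun p => Ideal.Quotient.mk I (x p))).mp (fun r => by
      rw [show (fun p => Ideal.Quotient.mk I (x p)) = fun p => (Ideal.Quotient.mkₐ R I) (x p) from rfl,
        ← MvPolynomial.comp_aeval_apply, Ideal.Quotient.mkₐ_eq_mk, Ideal.Quotient.eq_zero_iff_mem]
      exact hx r)
  have hmap : ∀ D : Matrix (Fin n) (Fin n) A, ∀ z, Ideal.Quotient.mk I (uCoeff D z) =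
      uCoeff (D.map (Ideal.Quotient.mk I)) z := by
    intro D z
    induction z using Sym2.ind with
    | h i j => by_cases h : i = j <;> simp [uCoeff, h]
  have hgm : g.map (Ideal.Quotient.mk I) = Matrix.of fun i j => Ideal.Quotient.mk I (x (i, j)) := rfl
  have hm : ∀ V : Matrix (Fin n) (Fin n) R, (V.map φ).map (Ideal.Quotient.mk I) = V.map (algebraMap R (A ⧸ I)) :=
    fun V => rfl
  have hg : ∀ z, uCoeff (gᵀ * U.map φ * g - U₀.map φ) z ∈ I := fun z => by
    rw [← Ideal.Quotient.eq_zero_iff_mem, hmap, Matrix.map_sub _ (map_sub _), Matrix.map_mul, Matrix.map_mul,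
      Matrix.transpose_map, hgm, hm, hm]
    exact congrFun ((isAltMat_iff _).mp halt) z
  have hdI : g.det - φ c ∈ I := by
    rw [← Ideal.Quotient.eq_zero_iff_mem, map_sub, RingHom.map_det, RingHom.mapMatrix_apply, hgm, hd, sub_eq_zero]
    rfl
  obtain ⟨γ, hγ⟩ : ∃ γ, γ * g.det = 1 := by
    obtain ⟨c', hc'⟩ := (hc.map φ).exists_left_inv
    refine ⟨c' * (1 - c' * (g.det - φ c)), ?_⟩
    linear_combination (1 - c' * (g.det - φ c)) * hc' +
      (-(c' ^ 2)) * (mul_eq_zero_of_sq hI hdI hdI)
  obtain ⟨τ, hτdef⟩ : ∃ τ, τ = γ * φ c - 1 := ⟨_, rfl⟩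
  have hτ : τ ∈ I := by
    rw [hτdef, show γ * φ c - 1 = -(γ * (g.det - φ c)) by linear_combination hγ]
    exact I.neg_mem (I.mul_mem_left _ hdI)
  have hdisc : (1 + τ) ^ 2 * hU (gᵀ * U.map φ * g) = hU (U₀.map φ) := by
    have e := hU_congr hn (U.map φ) gᵀ
    rw [Matrix.transpose_transpose, Matrix.det_transpose] at e
    rw [e, ← map_hU, ← map_hU, ← hcU, map_mul, map_pow, hτdef]
    linear_combination (φ c ^ 2 * φ (hU U) * (γ * g.det + 1)) * hγ
  obtain ⟨Y, hY, halt', htr⟩ := exists_correction_gen hn hI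
    (by rw [← map_hU, ← hcU]; exact ((hc.pow 2).mul hU').map φ) hg hτ hdisc
  refine ⟨fun p => (g * (1 + Y)) p.1 p.2, fun p => mul_one_add_sub_mem (g := g) hY p.1 p.2,
    (aeval_congrRel U U₀ c _).mpr ⟨?_, ?_⟩⟩
  · show (g * (1 + Y)).det = φ c
    rw [Matrix.det_mul, det_one_add hI hY, htr, hτdef]
    linear_combination φ c * hγ
  · show IsAltMat ((g * (1 + Y))ᵀ * U.map φ * (g * (1 + Y)) - U₀.map φ)
    rw [Matrix.transpose_mul, show (1 + Y)ᵀ * gᵀ * U.map φ * (g * (1 + Y)) = (1 + Y)ᵀ * (gᵀ * U.map φ * g) * (1 + Y) by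
      simp only [Matrix.mul_assoc]]
    exact alt_congr_one_add hI hg hY halt'

end Algebra

theorem sum_split_map {R : Type u} [CommRing R] (m : ℕ) (K : Type u) [Field K] [Algebra R K]
    (x : Fin (2 * m + 1) → K) :
    ∑ i, ∑ j, x i * x j * (qMat (QuadGrp.splitForm R (2 * m + 1))).map (algebraMap R K) i j =
      QuadGrp.splitForm K (2 * m + 1) x := by
  obtain ⟨U₀, hU₀def⟩ : ∃ U₀, U₀ = qMat (QuadGrp.splitForm R (2 * m + 1)) := ⟨_, rfl⟩
  rw [← hU₀def]
  have hb : ∀ y : Fin (2 * m + 1) → K, ((Pi.basisFun K (Fin (2 * m + 1))).repr y : Fin (2 * m + 1) → K) = y :=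
    fun y => funext fun i => by simp
  have hco : QuadGrp.coeffs (Pi.basisFun K (Fin (2 * m + 1))) (LinearEquiv.refl K K)
      (QuadGrp.splitForm K (2 * m + 1)) = uCoeff (U₀.map (algebraMap R K)) := by
    funext z
    induction z using Sym2.ind with
    | h i j =>
      have hR := congrFun (coeffs_qMat (QuadGrp.splitForm R (2 * m + 1))) (Sym2.mk i j)
      rw [← hU₀def] at hR
      have hs : ∀ t : Fin (2 * m + 1), ((Pi.single t 1 : Fin (2 * m + 1) → K)) =
          fun s => algebraMap R K ((Pi.single t 1 : Fin (2 * m + 1) → R) s) := fun t => funext fun s => by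
        by_cases h : s = t <;> simp [Pi.single_apply, h]
      have hev : ∀ y : Fin (2 * m + 1) → R, QuadGrp.splitForm K (2 * m + 1) (fun s => algebraMap R K (y s)) =
          algebraMap R K (QuadGrp.splitForm R (2 * m + 1) y) := fun y => by
        rw [split_odd_apply, split_odd_apply]; simp
      have hadd : ∀ y z : Fin (2 * m + 1) → R, (fun s => algebraMap R K (y s)) + (fun s => algebraMap R K (z s)) =
          fun s => algebraMap R K ((y + z) s) := fun y z => funext fun s => by simp
      by_cases hij : i = j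
      · subst hij
        simp [QuadGrp.coeffs_mk, uCoeff] at hR ⊢
        rw [hs, hev, hR]
      · simp [QuadGrp.coeffs_mk, uCoeff, hij, QuadraticMap.polar] at hR ⊢
        rw [hs i, hs j, hadd, hev, hev, hev, ← map_add, ← hR, map_sub, map_sub]
  conv_rhs => rw [form_eq_sum (Pi.basisFun K (Fin (2 * m + 1))) _ hco x, hb]

theorem faithfullyFlat_congrAlg {R : Type u} [CommRing R] {B : Type u} [CommRing B] [Algebra R B] (m : ℕ)
    {U : Matrix (Fin (2 * m + 1)) (Fin (2 * m + 1)) R} (hUu : IsUnit (hU U)) {c : B} (hcu : IsUnit c)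
    (hc2 : c ^ 2 * algebraMap R B (hU U) = algebraMap R B (hU (qMat (QuadGrp.splitForm R (2 * m + 1))))) :
    Module.FaithfullyFlat B (ZeroAlg (congrRel (U.map (algebraMap R B))
      ((qMat (QuadGrp.splitForm R (2 * m + 1))).map (algebraMap R B)) c)) := by
  obtain ⟨U₀, hU₀def⟩ : ∃ U₀, U₀ = qMat (QuadGrp.splitForm R (2 * m + 1)) := ⟨_, rfl⟩
  rw [← hU₀def] at hc2 ⊢
  have hn : Odd (2 * m + 1) := ⟨m, rfl⟩
  let f := algebraMap R B
  haveI : Algebra.Smooth B (ZeroAlg (congrRel (U.map f) (U₀.map f) c)) :=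
    RingHom.smooth_algebraMap.mp (smooth_congrAlg _ _ c hn (by rw [← map_hU]; exact hUu.map f) hcu
      (by rw [← map_hU, ← map_hU]; exact hc2))
  refine Module.FaithfullyFlat.of_comap_surjective fun P => ?_
  obtain ⟨K, _, _, _, φ₀, hφ₀⟩ : ∃ (K : Type u) (_ : Field K) (_ : IsAlgClosed K) (_ : Algebra B K),
      ∃ ψ : B →+* K, ψ = algebraMap B K ∧ RingHom.ker ψ = P.asIdeal := by
    refine ⟨AlgebraicClosure P.asIdeal.ResidueField, inferInstance, inferInstance, inferInstance, _, rfl, ?_⟩
    ext r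
    rw [RingHom.mem_ker, IsScalarTower.algebraMap_apply B P.asIdeal.ResidueField
      (AlgebraicClosure P.asIdeal.ResidueField), map_eq_zero, Ideal.algebraMap_residueField_eq_zero]
  obtain ⟨rfl, hker⟩ := hφ₀
  letI : Algebra R K := ((algebraMap B K).comp f).toAlgebra
  have hmapU : ∀ V : Matrix (Fin (2 * m + 1)) (Fin (2 * m + 1)) R,
      (V.map f).map (algebraMap B K) = V.map (algebraMap R K) := fun V => by
    ext i j; rfl
  let ψ := algebraMap B K
  obtain ⟨g, hg⟩ := exists_congr_split m ((U.map f).map ψ)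
    (by rw [← map_hU, ← map_hU]; exact (hUu.map f).map ψ) ((U₀.map f).map ψ)
    (fun x => by rw [hmapU, hU₀def]; exact sum_split_map m K x)
  obtain ⟨g', hg', hd'⟩ : ∃ g' : Matrix (Fin (2 * m + 1)) (Fin (2 * m + 1)) K,
      IsAltMat (g'ᵀ * (U.map f).map ψ * g' - (U₀.map f).map ψ) ∧ g'.det = ψ c := by
    have h1 := hU_eq_of_alt hg
    have e := hU_congr hn ((U.map f).map ψ) gᵀ
    rw [Matrix.transpose_transpose, Matrix.det_transpose] at e
    rw [e, ← map_hU, ← map_hU, ← map_hU ψ (U₀.map f), ← map_hU, ← hc2, map_mul, map_pow] at h1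
    have h2 : g.det ^ 2 = ψ c ^ 2 := mul_right_cancel₀ ((hUu.map f).map ψ).ne_zero h1
    rcases sq_eq_sq_iff_eq_or_eq_neg.mp h2 with h | h
    · exact ⟨g, hg, h⟩
    · refine ⟨-g, by rw [Matrix.transpose_neg, Matrix.neg_mul, Matrix.neg_mul, Matrix.mul_neg, neg_neg]; exact hg, ?_⟩
      rw [Matrix.det_neg, Fintype.card_fin, hn.neg_one_pow, h]; ring
  let φ := (zeroAlgEquiv (congrRel (U.map f) (U₀.map f) c) K).symm
    ⟨fun p => g' p.1 p.2, (aeval_congrRel _ _ c _).mpr ⟨hd', hg'⟩⟩
  refine ⟨⟨RingHom.ker φ, RingHom.ker_isPrime _⟩, PrimeSpectrum.ext ?_⟩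
  rw [PrimeSpectrum.comap_asIdeal, ← hker]
  ext r
  rw [Ideal.mem_comap, RingHom.mem_ker, RingHom.mem_ker, AlgHom.commutes]

theorem isometryEquiv_of_congr {R : Type u} [CommRing R] {n : ℕ} (Q Q₀ : QuadraticForm R (Fin n → R))
    {S : Type u} [CommRing S] [Algebra R S] {g : Matrix (Fin n) (Fin n) S} (hgu : IsUnit g.det)
    (halt : IsAltMat (gᵀ * (qMat Q).map (algebraMap R S) * g - (qMat Q₀).map (algebraMap R S))) :
    Nonempty ((QuadGrp.baseChangeForm S Q).IsometryEquiv (QuadGrp.baseChangeForm S Q₀)) := by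
  let bS := (Pi.basisFun R (Fin n)).baseChange S
  let e : (S ⊗[R] (Fin n → R)) ≃ₗ[S] (S ⊗[R] (Fin n → R)) :=
    LinearEquiv.ofLinearMap (Matrix.toLin bS bS g) (Matrix.toLin bS bS g⁻¹)
      (by rw [← Matrix.toLin_mul, Matrix.mul_nonsing_inv _ hgu, Matrix.toLin_one])
      (by rw [← Matrix.toLin_mul, Matrix.nonsing_inv_mul _ hgu, Matrix.toLin_one])
  refine ⟨QuadraticMap.IsometryEquiv.symm ⟨e, fun y => ?_⟩⟩
  show QuadGrp.baseChangeForm S Q (Matrix.toLin bS bS g y) = _
  rw [form_eq_sum bS _ (coeffs_baseChange Q S) (Matrix.toLin bS bS g y),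
    form_eq_sum bS _ (coeffs_baseChange Q₀ S) y, Matrix.repr_toLin, sum_congr_mat, ← sub_eq_zero,
    ← Finset.sum_sub_distrib]
  refine Eq.trans (Finset.sum_congr rfl fun i _ => ?_) (sum_quad_eq_zero halt (bS.repr y))
  rw [← Finset.sum_sub_distrib]
  refine Finset.sum_congr rfl fun j _ => ?_
  rw [Matrix.sub_apply, mul_sub]

theorem exists_sqrt_ext {R : Type u} [CommRing R] [Nontrivial R] {u v : R} (hu : IsUnit u) (hv : IsUnit v) :
    ∃ (R₁ : Type u) (_ : CommRing R₁) (_ : Algebra R R₁) (c : R₁), Module.FaithfullyFlat R R₁ ∧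
      Algebra.FinitePresentation R R₁ ∧ IsUnit c ∧ c ^ 2 * algebraMap R R₁ u = algebraMap R R₁ v := by
  obtain ⟨a, ha⟩ := hu.exists_left_inv
  let p : Polynomial R := Polynomial.X ^ 2 - Polynomial.C (v * a)
  have hp : p.Monic := Polynomial.monic_X_pow_sub_C _ two_ne_zero
  let R₁ := AdjoinRoot p
  have : Module.Free R R₁ := hp.free_adjoinRoot
  have : Nontrivial R₁ := by
    have hd : (AdjoinRoot.powerBasis' hp).dim = 2 := by
      show p.natDegree = 2
      exact Polynomial.natDegree_X_pow_sub_C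
    haveI : Nonempty (Fin (AdjoinRoot.powerBasis' hp).dim) := ⟨⟨0, by omega⟩⟩
    exact (AdjoinRoot.powerBasis' hp).basis.repr.toEquiv.nontrivial
  have hfp₁ : Algebra.FinitePresentation R R₁ := inferInstance
  let c : R₁ := AdjoinRoot.root p
  let f := algebraMap R R₁
  have hc2 : c ^ 2 * f (u) = f (v) := by
    have h0 : AdjoinRoot.mk p (Polynomial.X ^ 2 - Polynomial.C (v * a)) = 0 := AdjoinRoot.mk_self
    rw [map_sub, map_pow, AdjoinRoot.mk_X, AdjoinRoot.mk_C, ← AdjoinRoot.algebraMap_eq] at h0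
    replace h0 : c ^ 2 - f (v) * f a = 0 := by rw [← map_mul]; exact h0
    have ha' : f a * f (u) = 1 := by rw [← map_mul, ha, map_one]
    linear_combination f (u) * h0 + f (v) * ha'
  have hcu : IsUnit c :=
    (isUnit_pow_iff two_ne_zero).mp (IsUnit.mul_iff.mp (hc2.symm ▸ hv.map f : IsUnit (c ^ 2 * f (u)))).1
  exact ⟨R₁, inferInstance, inferInstance, c, inferInstance, hfp₁, hcu, hc2⟩

theorem exists_split_aux {R : Type u} [CommRing R] {R₁ : Type u} [CommRing R₁] [Algebra R R₁] (m : ℕ)
    (Q : QuadraticForm R (Fin (2 * m + 1) → R)) (hUu : IsUnit (hU (qMat Q))) {c : R₁} (hcu : IsUnit c)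
    [Module.FaithfullyFlat R R₁] [Algebra.FinitePresentation R R₁]
    (hc2 : c ^ 2 * algebraMap R R₁ (hU (qMat Q)) =
      algebraMap R R₁ (hU (qMat (QuadGrp.splitForm R (2 * m + 1))))) :
    ∃ (A : Type u) (_ : CommRing A) (_ : Algebra R A), Module.FaithfullyFlat R A ∧ Algebra.FinitePresentation R A ∧
      Nonempty ((QuadGrp.baseChangeForm A Q).IsometryEquiv
        (QuadGrp.baseChangeForm A (QuadGrp.splitForm R (2 * m + 1)))) := by
  let f := algebraMap R R₁
  let U := qMat Q
  let U₀ := qMat (QuadGrp.splitForm R (2 * m + 1))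
  have hff : Module.FaithfullyFlat R₁ (ZeroAlg (congrRel (U.map f) (U₀.map f) c)) :=
    faithfullyFlat_congrAlg m hUu hcu hc2
  let S := ZeroAlg (congrRel (U.map f) (U₀.map f) c)
  have hfpS : Algebra.FinitePresentation R₁ S := zeroAlg_finitePresentation _
  refine ⟨S, inferInstance, inferInstance, Module.FaithfullyFlat.trans R R₁ S,
    Algebra.FinitePresentation.trans R R₁ S, ?_⟩
  obtain ⟨hdet, halt⟩ := (aeval_congrRel (U.map f) (U₀.map f) c _).mp ((zeroAlgEquiv _ S) (AlgHom.id R₁ S)).2
  have hmm : ∀ V : Matrix (Fin (2 * m + 1)) (Fin (2 * m + 1)) R,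
      (V.map f).map (algebraMap R₁ S) = V.map (algebraMap R S) := fun V => by
    ext i j; exact (IsScalarTower.algebraMap_apply R R₁ S _).symm
  rw [hmm, hmm] at halt
  refine isometryEquiv_of_congr Q _ ?_ halt
  rw [hdet]
  exact hcu.map _

/-- Splitting a semiregular form of odd rank. -/
theorem exists_split {R : Type u} [CommRing R] (m : ℕ) (Q : QuadraticForm R (Fin (2 * m + 1) → R))
    (hQ : QuadGrp.IsSemiregular (Pi.basisFun R (Fin (2 * m + 1))) (LinearEquiv.refl R R) Q) :
    ∃ (A : Type u) (_ : CommRing A) (_ : Algebra R A), Module.FaithfullyFlat R A ∧ Algebra.FinitePresentation R A ∧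
      Nonempty ((QuadGrp.baseChangeForm A Q).IsometryEquiv
        (QuadGrp.baseChangeForm A (QuadGrp.splitForm R (2 * m + 1)))) := by
  rcases subsingleton_or_nontrivial R with hR | hR
  · exact ⟨R, inferInstance, inferInstance, inferInstance, inferInstance,
      ⟨⟨LinearEquiv.refl R _, fun _ => Subsingleton.elim _ _⟩⟩⟩
  have hUu : IsUnit (hU (qMat Q)) :=
    (nondeg_qMat Q ⟨fun h => absurd h (Nat.not_even_iff_odd.mpr ⟨m, rfl⟩), fun _ => hQ⟩).2 ⟨m, rfl⟩
  obtain ⟨R₁, _, _, c, _, _, hcu, hc2⟩ := exists_sqrt_ext hUu (isUnit_halfDisc_split R m)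
  exact exists_split_aux m Q hUu hcu hc2

end QuadSch
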