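import Groth.Agent.QuadSch.PinSmooth
import Groth.Agent.QuadSch.SplitLoc
import Groth.Agent.QuadCliff.Ext
import Mathlib.LinearAlgebra.CliffordAlgebra.EvenEquiv
import Mathlib.LinearAlgebra.TensorProduct.Pi
import Mathlib.RingTheory.OrzechProperty
import Mathlib.LinearAlgebra.Matrix.ToLin

/-!
The Clifford algebra of a semiregular form of odd rank: fppf-local structure of the even part, centre, and
the multiplication map.
-/

universe u

open TensorProduct CliffordAlgebra QuadCliff

namespace QuadSch

section EvenMaps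

variable {R : Type u} [CommRing R] {M : Type u} [AddCommGroup M] [Module R M]
  {N : Type u} [AddCommGroup N] [Module R N] {q : QuadraticForm R M} {q' : QuadraticForm R N}

theorem map_mem_even (f : q →qᵢ q') {x : CliffordAlgebra q} (hx : x ∈ evenOdd q 0) :
    CliffordAlgebra.map f x ∈ evenOdd q' 0 := by
  induction x, hx using even_induction with
  | algebraMap r => rw [AlgHom.commutes]; exact SetLike.algebraMap_mem_graded _ _
  | add x y _ _ hx hy => rw [map_add]; exact Submodule.add_mem _ hx hy
  | ι_mul_ι_mul v w x _ hx =>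
    rw [map_mul, map_mul, map_apply_ι, map_apply_ι]
    simpa using SetLike.mul_mem_graded (ι_mul_ι_mem_evenOdd_zero q' (f v) (f w)) hx

/-- An isometry induces an isomorphism of even Clifford algebras. -/
noncomputable def evenCongr (e : q.IsometryEquiv q') : CliffordAlgebra.even q ≃ₐ[R] CliffordAlgebra.even q' :=
  AlgEquiv.ofAlgHom
    (((CliffordAlgebra.map e.toIsometry).comp (CliffordAlgebra.even q).val).codRestrict _
      fun x => map_mem_even e.toIsometry x.2)
    (((CliffordAlgebra.map e.symm.toIsometry).comp (CliffordAlgebra.even q').val).codRestrict _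
      fun x => map_mem_even e.symm.toIsometry x.2)
    (AlgHom.ext fun x => Subtype.ext (by
      show CliffordAlgebra.map e.toIsometry (CliffordAlgebra.map e.symm.toIsometry (x : CliffordAlgebra q')) = x
      exact (equivOfIsometry e).apply_symm_apply _))
    (AlgHom.ext fun x => Subtype.ext (by
      show CliffordAlgebra.map e.symm.toIsometry (CliffordAlgebra.map e.toIsometry (x : CliffordAlgebra q)) = x
      exact (equivOfIsometry e).symm_apply_apply _))

end EvenMaps

section EvenBC

variable {R : Type u} [CommRing R] {M : Type u} [AddCommGroup M] [Module R M] [Module.Free R M]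
  (Q : QuadraticForm R M) (A : Type u) [CommRing A] [Algebra R A]

/-- `A ⊗ C₀(Q) → C₀(Q_A)`. -/
noncomputable def evenBCHom : A ⊗[R] ↥(CliffordAlgebra.even Q) →ₐ[A]
    ↥(CliffordAlgebra.even (QuadGrp.baseChangeForm A Q)) :=
  ((tensorToBC Q A).comp (Algebra.TensorProduct.map (AlgHom.id A A) (CliffordAlgebra.even Q).val)).codRestrict _
    fun t => by
      induction t using TensorProduct.induction_on with
      | zero => rw [map_zero]; exact Subalgebra.zero_mem _
      | add x y hx hy => rw [map_add]; exact Subalgebra.add_mem _ hx hy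
      | tmul a x =>
        rw [AlgHom.comp_apply, Algebra.TensorProduct.map_tmul, tensorToBC_tmul]
        exact Subalgebra.smul_mem _ (toBC_mem_evenOdd A Q x.2) _

theorem evenBCHom_bijective : Function.Bijective (evenBCHom Q A) := by
  let p₀ : CliffordAlgebra Q →ₗ[R] ↥(CliffordAlgebra.even Q) :=
    LinearMap.codRestrict (Subalgebra.toSubmodule (CliffordAlgebra.even Q)) (par Q 0) fun x => par_mem Q 0 x
  have hp : ∀ x : ↥(CliffordAlgebra.even Q), p₀ (x : CliffordAlgebra Q) = x := fun x => Subtype.ext (par_of_mem x.2)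
  have hval : ∀ t, ((evenBCHom Q A t : ↥(CliffordAlgebra.even (QuadGrp.baseChangeForm A Q))) :
      CliffordAlgebra (QuadGrp.baseChangeForm A Q)) =
      tensorToBC Q A (Algebra.TensorProduct.map (AlgHom.id A A) (CliffordAlgebra.even Q).val t) := fun t => rfl
  refine ⟨fun t t' h => ?_, fun y => ?_⟩
  · have h' := congrArg (fun z : ↥(CliffordAlgebra.even (QuadGrp.baseChangeForm A Q)) => LinearMap.lTensor A p₀ (bcEquiv Q A
      (z : CliffordAlgebra (QuadGrp.baseChangeForm A Q)))) h
    simp only [hval] at h'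
    have key : ∀ s, LinearMap.lTensor A p₀ (bcEquiv Q A (tensorToBC Q A
        (Algebra.TensorProduct.map (AlgHom.id A A) (CliffordAlgebra.even Q).val s))) = s := by
      intro s
      show LinearMap.lTensor A p₀ (fromBC A Q _) = s
      rw [fromBC_tensorToBC]
      induction s using TensorProduct.induction_on with
      | zero => simp
      | add x y hx hy => rw [map_add, map_add, hx, hy]
      | tmul a x => rw [Algebra.TensorProduct.map_tmul, LinearMap.lTensor_tmul]; exact congrArg (a ⊗ₜ[R] ·) (hp x)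
    rwa [key, key] at h'
  · have hy : (y : CliffordAlgebra (QuadGrp.baseChangeForm A Q)) =
        par (QuadGrp.baseChangeForm A Q) 0 (y : CliffordAlgebra (QuadGrp.baseChangeForm A Q)) := (par_of_mem y.2).symm
    suffices h : ∀ z : CliffordAlgebra (QuadGrp.baseChangeForm A Q), ∃ t,
        ((evenBCHom Q A t : ↥(CliffordAlgebra.even (QuadGrp.baseChangeForm A Q))) :
          CliffordAlgebra (QuadGrp.baseChangeForm A Q)) = par (QuadGrp.baseChangeForm A Q) 0 z by
      obtain ⟨t, ht⟩ := h y
      exact ⟨t, Subtype.ext (ht.trans hy.symm)⟩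
    intro z
    obtain ⟨s, rfl⟩ := (bcEquiv Q A).symm.surjective z
    induction s using TensorProduct.induction_on with
    | zero => exact ⟨0, by simp⟩
    | add s s' hs hs' =>
      obtain ⟨t, ht⟩ := hs; obtain ⟨t', ht'⟩ := hs'
      exact ⟨t + t', by rw [map_add, AddMemClass.coe_add, ht, ht', map_add, map_add]⟩
    | tmul a x =>
      refine ⟨a ⊗ₜ p₀ x, ?_⟩
      rw [hval, Algebra.TensorProduct.map_tmul, tensorToBC_tmul, bcEquiv_symm_tmul, map_smul]
      congr 1
      show toBC A Q (par Q 0 x) = _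
      conv_rhs => rw [← par_add_par Q x, map_add, map_add, par_of_mem (toBC_mem_evenOdd A Q (par_mem Q 0 x)),
        par_eq_zero (toBC_mem_evenOdd A Q (par_mem Q 1 x)) (by decide), add_zero]

/-- `A ⊗ C₀(Q) ≃ C₀(Q_A)`. -/
noncomputable def evenBC : A ⊗[R] ↥(CliffordAlgebra.even Q) ≃ₐ[A]
    ↥(CliffordAlgebra.even (QuadGrp.baseChangeForm A Q)) :=
  AlgEquiv.ofBijective (evenBCHom Q A) (evenBCHom_bijective Q A)

/-- The base change of a form on `Rⁿ` as a form on `Aⁿ`. -/
theorem baseChange_split (n : ℕ) [NeZero n] :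
    Nonempty ((QuadGrp.baseChangeForm A (QuadGrp.splitForm R n)).IsometryEquiv (QuadGrp.splitForm A n)) := by
  classical
  refine ⟨⟨TensorProduct.piScalarRight R A A (Fin n), fun t => ?_⟩⟩
  have h : (QuadGrp.splitForm A n).comp (TensorProduct.piScalarRight R A A (Fin n)).toLinearMap =
      QuadGrp.baseChangeForm A (QuadGrp.splitForm R n) := baseChange_ext fun v => by
    rw [baseChangeForm_one_tmul]
    show QuadGrp.splitForm A n (TensorProduct.piScalarRight R A A (Fin n) (1 ⊗ₜ v)) = _
    rw [TensorProduct.piScalarRight_apply, TensorProduct.piScalarRightHom_tmul]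
    simp only [QuadGrp.splitForm, QuadraticMap.add_apply, QuadraticMap.sum_apply, QuadraticMap.linMulLin_apply,
      LinearMap.proj_apply]
    split_ifs with hn <;> simp [Algebra.smul_def]
  exact congrArg (fun q => q t) h

end EvenBC

section SplitEven

variable (A : Type u) [CommRing A] (m : ℕ)

/-- Minus the hyperbolic part of the odd split form. -/
noncomputable def qNeg : QuadraticForm A (Fin (2 * m) → A) :=
  -((QuadGrp.splitForm A (2 * m + 1)).comp
    ((Fin.consLinearEquiv A fun _ : Fin (2 * m + 1) => A).toLinearMap.comp (LinearMap.inr A A (Fin (2 * m) → A))))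

theorem qNeg_apply (y : Fin (2 * m) → A) : qNeg A m y = -∑ i, y (oddPair m (i, 0)) * y (oddPair m (i, 1)) := by
  show -(QuadGrp.splitForm A (2 * m + 1) (Fin.cons 0 y)) = _
  rw [split_odd_apply]
  simp

/-- `-q_{2m+1}` is the form whose even Clifford algebra is `C(qNeg)`. -/
noncomputable def negSplitIso :
    (-(QuadGrp.splitForm A (2 * m + 1))).IsometryEquiv (EquivEven.Q' (qNeg A m)) where
  toLinearEquiv := (Fin.consLinearEquiv A fun _ : Fin (2 * m + 1) => A).symm.trans (LinearEquiv.prodComm A A _)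
  map_app' x := by
    show EquivEven.Q' (qNeg A m) (Fin.tail x, x 0) = -(QuadGrp.splitForm A (2 * m + 1) x)
    rw [EquivEven.Q'_apply, qNeg_apply, split_odd_apply]
    show -∑ i, x (oddPair m (i, 0)).succ * x (oddPair m (i, 1)).succ - x 0 * x 0 = _
    ring

/-- The spinor representation. -/
noncomputable def spinorRep : CliffordAlgebra (qNeg A m) →ₐ[A] Module.End A (ExteriorAlgebra A (Fin m → A)) :=
  CliffordAlgebra.lift (qNeg A m)
    ⟨((LinearMap.mul A (ExteriorAlgebra A (Fin m → A))).comp (ExteriorAlgebra.ι A)).comp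
        (LinearMap.funLeft A A fun i => oddPair m (i, 0)) -
      (contractLeft (R := A) (M := Fin m → A) (Q := 0)).comp
        (∑ i, (LinearMap.proj (oddPair m (i, 1)) : (Fin (2 * m) → A) →ₗ[A] A).smulRight
          (LinearMap.proj i : (Fin m → A) →ₗ[A] A)), fun y => by
      refine LinearMap.ext fun t => ?_
      set ξ : Fin m → A := fun i => y (oddPair m (i, 0)) with hξ
      set δ : Module.Dual A (Fin m → A) := ∑ i, y (oddPair m (i, 1)) • (LinearMap.proj i : (Fin m → A) →ₗ[A] A) with hδ
      have hd : ((∑ i, (LinearMap.proj (oddPair m (i, 1)) : (Fin (2 * m) → A) →ₗ[A] A).smulRight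
          (LinearMap.proj i : (Fin m → A) →ₗ[A] A)) y) = δ := by
        simp [hδ, LinearMap.smulRight_apply]
      simp only [LinearMap.sub_apply, LinearMap.comp_apply, hd, Module.End.mul_apply]
      show ExteriorAlgebra.ι A ξ * (ExteriorAlgebra.ι A ξ * t - dL δ t) - dL δ (ExteriorAlgebra.ι A ξ * t - dL δ t) = _
      rw [map_sub, mul_sub, ← mul_assoc, ExteriorAlgebra.ι_sq_zero, zero_mul,
        show dL δ (dL δ t) = 0 from contractLeft_contractLeft δ t,
        show dL δ (ExteriorAlgebra.ι A ξ * t) = δ ξ • t - ExteriorAlgebra.ι A ξ * dL δ t from contractLeft_ι_mul δ ξ t,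
        Module.algebraMap_end_apply, qNeg_apply, hδ, LinearMap.sum_apply]
      simp only [LinearMap.smul_apply, LinearMap.proj_apply, smul_eq_mul, hξ]
      rw [Finset.sum_congr rfl fun i _ => mul_comm (y (oddPair m (i, 1))) (y (oddPair m (i, 0))), neg_smul]
      abel⟩

theorem spinorRep_bijective : Function.Bijective (spinorRep A m) := by
  classical
  let bm := Pi.basisFun A (Fin m)
  have hrange : (spinorRep A m).range = ⊤ := by
    refine endSubalgebra_eq_top bm _ (fun v => ⟨ι _ (fun j => if ((oddPair m).symm j).2 = 0 then v ((oddPair m).symm j).1 else 0), ?_⟩)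
      fun d => ⟨ι _ (fun j => if ((oddPair m).symm j).2 = 1 then -d (Pi.single ((oddPair m).symm j).1 1) else 0), ?_⟩
    · show spinorRep A m (ι _ _) = _
      rw [spinorRep, CliffordAlgebra.lift_ι_apply]
      refine LinearMap.ext fun t => ?_
      simp [LinearMap.funLeft_apply, LinearMap.smulRight_apply]
      congr 2
      funext i
      simp
    · show spinorRep A m (ι _ _) = _
      rw [spinorRep, CliffordAlgebra.lift_ι_apply]
      refine LinearMap.ext fun t => ?_
      simp [LinearMap.funLeft_apply, LinearMap.smulRight_apply]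
      have hz : (LinearMap.funLeft A A fun i : Fin m => oddPair m (i, 0))
          (fun j => if ((oddPair m).symm j).2 = 1 then -d (Pi.single ((oddPair m).symm j).1 1) else 0) = 0 := by
        funext i; simp [LinearMap.funLeft_apply]
      rw [hz, map_zero, zero_mul, zero_add]
      conv_rhs => rw [show d = ∑ i, d (Pi.single i 1) • (LinearMap.proj i : (Fin m → A) →ₗ[A] A) from
        bm.ext fun j => by simp [bm, Pi.single_apply, Finset.sum_ite_eq']]
      simp [dL, map_sum, LinearMap.sum_apply]
  have hsurj : Function.Surjective (spinorRep A m) := AlgHom.range_eq_top _ |>.mp hrange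
  refine ⟨?_, hsurj⟩
  obtain ⟨c⟩ := exists_fin_basis (q := qNeg A m) (Pi.basisFun A (Fin (2 * m)))
  have := Module.Finite.of_basis c
  let e : Module.Basis (Finset (Fin m) × Finset (Fin m)) A (Module.End A (ExteriorAlgebra A (Fin m → A))) :=
    bm.ExteriorAlgebra.end
  let σ : Finset (Fin m) × Finset (Fin m) ≃ Finset (Fin (2 * m)) := Fintype.equivOfCardEq (by
    simp [← pow_add, two_mul])
  let L : Module.End A (ExteriorAlgebra A (Fin m → A)) ≃ₗ[A] CliffordAlgebra (qNeg A m) := e.equiv c σ
  have := OrzechProperty.injective_of_surjective_endomorphism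
    (L.toLinearMap.comp (spinorRep A m).toLinearMap) (L.surjective.comp hsurj)
  exact fun x y h => this (congrArg L h)

/-- The even Clifford algebra of the odd split form is a matrix algebra. -/
theorem even_split_matrix :
    Nonempty (↥(CliffordAlgebra.even (QuadGrp.splitForm A (2 * m + 1))) ≃ₐ[A]
      Matrix (Fin (2 ^ m)) (Fin (2 ^ m)) A) := by
  let bE := (Pi.basisFun A (Fin m)).ExteriorAlgebra.reindex (Fintype.equivFinOfCardEq (by simp : Fintype.card (Finset (Fin m)) = 2 ^ m))
  exact ⟨(evenEquivEvenNeg _).trans ((evenCongr (negSplitIso A m)).trans ((equivEven (qNeg A m)).symm.trans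
    ((AlgEquiv.ofBijective (spinorRep A m) (spinorRep_bijective A m)).trans (algEquivMatrix bE))))⟩

end SplitEven

section Result

variable {R : Type u} [CommRing R] {M : Type u} [AddCommGroup M] [Module R M] {m : ℕ}
  (b : Module.Basis (Fin (2 * m + 1)) R M) (Q : QuadraticForm R M)
  (hQ : QuadGrp.IsSemiregular b (LinearEquiv.refl R R) Q)

include hQ

theorem even_fppf_matrix :
    ∃ (R' : Type u) (_ : CommRing R') (_ : Algebra R R'), Module.FaithfullyFlat R R' ∧ Algebra.FinitePresentation R R' ∧
      Nonempty ((R' ⊗[R] ↥(CliffordAlgebra.even Q)) ≃ₐ[R'] Matrix (Fin (2 ^ m)) (Fin (2 ^ m)) R') := by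
  classical
  let Q' : QuadraticForm R (Fin (2 * m + 1) → R) := Q.comp b.equivFun.symm.toLinearMap
  let e : Q.IsometryEquiv Q' := ⟨b.equivFun, fun x => by
    show Q (b.equivFun.symm (b.equivFun x)) = Q x
    rw [LinearEquiv.symm_apply_apply]⟩
  have hQ' : QuadGrp.IsSemiregular (Pi.basisFun R (Fin (2 * m + 1))) (LinearEquiv.refl R R) Q' := by
    have hco : QuadGrp.coeffs (Pi.basisFun R (Fin (2 * m + 1))) (LinearEquiv.refl R R) Q' =
        QuadGrp.coeffs b (LinearEquiv.refl R R) Q := by
      funext z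
      induction z using Sym2.ind with
      | h i j =>
        have hs : ∀ k, b.equivFun.symm (Pi.single k 1 : Fin (2 * m + 1) → R) = b k := fun k => by
          rw [Module.Basis.equivFun_symm_apply]; simp [Pi.single_apply]
        simp [QuadGrp.coeffs_mk, Q', QuadraticMap.polar, hs, map_add]
    rw [QuadGrp.IsSemiregular, QuadGrp.halfDisc, hco]
    exact hQ
  obtain ⟨A, hA, hAR, h1, h2, ⟨iso⟩⟩ := exists_split m Q' hQ'
  obtain ⟨iso'⟩ := baseChange_split (R := R) A (2 * m + 1)
  obtain ⟨μ⟩ := even_split_matrix A m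
  exact ⟨A, hA, hAR, h1, h2, ⟨(Algebra.TensorProduct.congr AlgEquiv.refl (evenCongr e)).trans
    ((evenBC Q' A).trans ((evenCongr (iso.trans iso')).trans μ))⟩⟩

theorem exists_odd_central_sum : ∃ (κ : Type) (_ : Fintype κ) (z w : κ → CliffordAlgebra Q),
    (∀ i, z i ∈ evenOdd Q 1 ∧ w i ∈ evenOdd Q 1 ∧ (∀ v, ι Q v * z i = z i * ι Q v) ∧
      (∀ v, ι Q v * w i = w i * ι Q v)) ∧ ∑ i, z i * w i = 1 := by
  classical
  haveI := Module.Free.of_basis b
  let Z : Set (CliffordAlgebra Q) := {z | z ∈ evenOdd Q 1 ∧ ∀ v, ι Q v * z = z * ι Q v}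
  let P : Submodule R (CliffordAlgebra Q) := Submodule.span R (Set.range fun p : Z × Z => (p.1 : CliffordAlgebra Q) * p.2)
  suffices h1 : (1 : CliffordAlgebra Q) ∈ P by
    obtain ⟨c, hc⟩ := Finsupp.mem_span_range_iff_exists_finsupp.mp h1
    let s := c.support
    refine ⟨Fin s.card, inferInstance, fun i => c (s.equivFin.symm i : Z × Z) • ((s.equivFin.symm i : Z × Z).1 : CliffordAlgebra Q),
      fun i => ((s.equivFin.symm i : Z × Z).2 : CliffordAlgebra Q), fun i => ⟨Submodule.smul_mem _ _ (s.equivFin.symm i : Z × Z).1.2.1,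
        (s.equivFin.symm i : Z × Z).2.2.1, fun v => by rw [mul_smul_comm, smul_mul_assoc, (s.equivFin.symm i : Z × Z).1.2.2 v],
        (s.equivFin.symm i : Z × Z).2.2.2⟩, ?_⟩
    rw [← hc, Finsupp.sum]
    refine Eq.trans ?_ (Finset.sum_coe_sort s fun a : Z × Z => c a • ((a.1 : CliffordAlgebra Q) * a.2))
    refine Eq.trans ?_ (Equiv.sum_comp s.equivFin.symm fun a : ↥s => c (a : Z × Z) • (((a : Z × Z).1 : CliffordAlgebra Q) * (a : Z × Z).2))
    exact Finset.sum_congr rfl fun i _ => smul_mul_assoc _ _ _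
  let J : Ideal R := P.comap (Algebra.linearMap R (CliffordAlgebra Q))
  suffices hJ : J = ⊤ by
    have h : (1 : R) ∈ J := hJ ▸ Submodule.mem_top
    simpa [J] using h
  by_contra hne
  obtain ⟨p, hp, hle⟩ := Ideal.exists_le_maximal J hne
  haveI := hp.isPrime
  let B := Localization.AtPrime p
  obtain ⟨z', Δ, hzo, hzc, hΔ, hzz, -⟩ := (exists_oddData (b.baseChange B) (isSemiregular_baseChange B b hQ)).central
  obtain ⟨x, s, hs, hxs⟩ := exists_smul_eq B Q p.primeCompl z'
  have hpar : toBC B Q (par Q 1 x) = toBC B Q x := by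
    have hx : toBC B Q x ∈ evenOdd (QuadGrp.baseChangeForm B Q) 1 := hxs ▸ Submodule.smul_mem _ _ hzo
    rw [← par_of_mem hx, ← par_add_par Q x, map_add, map_add, map_add, map_add,
      par_eq_zero (toBC_mem_evenOdd B Q (par_mem Q 0 x)) (by decide),
      par_of_mem (toBC_mem_evenOdd B Q (par_mem Q 1 x)), zero_add]
    rw [par_eq_zero (par_mem Q 0 x) (by decide : (0 : ZMod 2) ≠ 1), map_zero, zero_add, par_of_mem (par_mem Q 1 x)]
  have hkill : ∀ i, ∃ t ∈ p.primeCompl, t • (ι Q (b i) * par Q 1 x - par Q 1 x * ι Q (b i)) = 0 := fun i => by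
    refine exists_smul_eq_zero B Q p.primeCompl ?_
    rw [map_sub, map_mul, map_mul, hpar, ← hxs, mul_smul_comm, smul_mul_assoc, hzc, sub_self]
  choose t ht htx using hkill
  let T := ∏ i, t i
  have hT : T ∈ p.primeCompl := Submonoid.prod_mem _ fun i _ => ht i
  have hc : ∀ v, ι Q v * (T • par Q 1 x) = (T • par Q 1 x) * ι Q v := by
    have : (LinearMap.mulRight R (T • par Q 1 x)).comp (ι Q) = (LinearMap.mulLeft R (T • par Q 1 x)).comp (ι Q) :=
      b.ext fun i => by
        show ι Q (b i) * (T • par Q 1 x) = (T • par Q 1 x) * ι Q (b i)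
        rw [mul_smul_comm, smul_mul_assoc, ← sub_eq_zero, ← smul_sub,
          show T = (∏ j ∈ Finset.univ.erase i, t j) * t i from (Finset.prod_erase_mul _ _ (Finset.mem_univ i)).symm,
          mul_smul, htx, smul_zero]
    exact fun v => LinearMap.congr_fun this v
  let y : Z := ⟨T • par Q 1 x, Submodule.smul_mem _ _ (par_mem Q 1 x), hc⟩
  obtain ⟨r, hr⟩ := exists_eq_algebraMap b hQ (x := (y : CliffordAlgebra Q) * y)
    (by simpa [show (1 + 1 : ZMod 2) = 0 by decide] using SetLike.mul_mem_graded y.2.1 y.2.1)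
    (fun v => by rw [← mul_assoc, y.2.2 v, mul_assoc, y.2.2 v, mul_assoc])
  have hrJ : r ∈ J := by
    show algebraMap R _ r ∈ P
    rw [← hr]
    exact Submodule.subset_span ⟨(y, y), rfl⟩
  refine (IsLocalization.AtPrime.isUnit_to_map_iff B p r).mp ?_ (hle hrJ)
  have h1 : toBC B Q ((y : CliffordAlgebra Q) * y) = algebraMap B _ (algebraMap R B (T * s) ^ 2 * Δ) := by
    show toBC B Q ((T • par Q 1 x) * (T • par Q 1 x)) = _
    rw [map_mul, map_smul, hpar, ← hxs, ← algebraMap_smul B T, smul_smul, ← map_mul, smul_mul_smul_comm, hzz,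
      Algebra.smul_def, ← map_mul, sq]
  rw [hr, AlgHom.commutes, IsScalarTower.algebraMap_apply R B] at h1
  rw [algebraMap_injective (b.baseChange B) (Q := QuadGrp.baseChangeForm B Q) h1]
  exact (((IsLocalization.AtPrime.isUnit_to_map_iff B p _).mpr (p.primeCompl.mul_mem hT hs)).pow 2).mul hΔ

theorem center_mul_bijective :
    Function.Bijective (TensorProduct.lift
        (((LinearMap.mul R (CliffordAlgebra Q)).comp (Subalgebra.center R (CliffordAlgebra Q)).val.toLinearMap).compl₂
          (CliffordAlgebra.even Q).val.toLinearMap)) := by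
  haveI := Module.Free.of_basis b
  obtain ⟨κ, _, z, w, hzw, hsum⟩ := exists_odd_central_sum b Q hQ
  have hcz : ∀ i, z i ∈ Subalgebra.center R (CliffordAlgebra Q) := fun i =>
    Subalgebra.mem_center_iff.mpr (mul_comm_of_ι (hzw i).2.2.1)
  let q₀ : CliffordAlgebra Q →ₗ[R] ↥(CliffordAlgebra.even Q) :=
    LinearMap.codRestrict (Subalgebra.toSubmodule (CliffordAlgebra.even Q)) (par Q 0) fun x => par_mem Q 0 x
  let q₁ : κ → CliffordAlgebra Q →ₗ[R] ↥(CliffordAlgebra.even Q) := fun i =>
    LinearMap.codRestrict (Subalgebra.toSubmodule (CliffordAlgebra.even Q))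
      ((LinearMap.mulLeft R (w i)).comp (par Q 1)) fun x => by
        show w i * par Q 1 x ∈ evenOdd Q 0
        simpa [show (1 + 1 : ZMod 2) = 0 by decide] using SetLike.mul_mem_graded (hzw i).2.1 (par_mem Q 1 x)
  have hq₀ : ∀ x, ((q₀ x : ↥(CliffordAlgebra.even Q)) : CliffordAlgebra Q) = par Q 0 x := fun x => rfl
  have hq₁ : ∀ i x, ((q₁ i x : ↥(CliffordAlgebra.even Q)) : CliffordAlgebra Q) = w i * par Q 1 x := fun i x => rfl
  let Φ : CliffordAlgebra Q →ₗ[R] ↥(Subalgebra.center R (CliffordAlgebra Q)) ⊗[R] ↥(CliffordAlgebra.even Q) :=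
    (TensorProduct.mk R _ _ 1).comp q₀ + ∑ i, (TensorProduct.mk R _ _ ⟨z i, hcz i⟩).comp (q₁ i)
  set μ := TensorProduct.lift
    (((LinearMap.mul R (CliffordAlgebra Q)).comp (Subalgebra.center R (CliffordAlgebra Q)).val.toLinearMap).compl₂
      (CliffordAlgebra.even Q).val.toLinearMap)
  have hμ : ∀ (c : ↥(Subalgebra.center R (CliffordAlgebra Q))) (e : ↥(CliffordAlgebra.even Q)),
      μ (c ⊗ₜ e) = (c : CliffordAlgebra Q) * e := fun c e => rfl
  refine ⟨Function.LeftInverse.injective (g := Φ) fun t => ?_, fun y => ⟨Φ y, ?_⟩⟩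
  · induction t using TensorProduct.induction_on with
    | zero => simp
    | add s s' hs hs' => rw [map_add, map_add, hs, hs']
    | tmul c e =>
      obtain ⟨c, hc⟩ := c
      have hcc : ∀ v, ι Q v * c = c * ι Q v := fun v => Subalgebra.mem_center_iff.mp hc _
      have h0 : ∀ v, ι Q v * par Q 0 c = par Q 0 c * ι Q v := fun v => (par_conj (hcc v).symm 0).symm
      have h1 : ∀ v, ι Q v * par Q 1 c = par Q 1 c * ι Q v := fun v => (par_conj (hcc v).symm 1).symm
      obtain ⟨r, hr⟩ := exists_eq_algebraMap b hQ (par_mem Q 0 c) h0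
      have hs : ∀ i, ∃ s, w i * par Q 1 c = algebraMap R _ s := fun i => exists_eq_algebraMap b hQ
        (by simpa [show (1 + 1 : ZMod 2) = 0 by decide] using SetLike.mul_mem_graded (hzw i).2.1 (par_mem Q 1 c))
        fun v => by rw [← mul_assoc, (hzw i).2.2.2 v, mul_assoc, h1 v, mul_assoc]
      choose s hs using hs
      have e0 : par Q 0 (c * (e : CliffordAlgebra Q)) = par Q 0 c * e ∧
          par Q 1 (c * (e : CliffordAlgebra Q)) = par Q 1 c * e := by
        have a0 : par Q 0 c * e ∈ evenOdd Q 0 := by simpa using SetLike.mul_mem_graded (par_mem Q 0 c) e.2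
        have a1 : par Q 1 c * e ∈ evenOdd Q 1 := by simpa using SetLike.mul_mem_graded (par_mem Q 1 c) e.2
        constructor <;> conv_lhs => rw [← par_add_par Q c, add_mul, map_add]
        · rw [par_of_mem a0, par_eq_zero a1 (by decide), add_zero]
        · rw [par_eq_zero a0 (by decide), par_of_mem a1, zero_add]
      rw [hμ]
      simp only [Φ, LinearMap.add_apply, LinearMap.sum_apply, LinearMap.comp_apply, TensorProduct.mk_apply]
      have t0 : q₀ (c * (e : CliffordAlgebra Q)) = r • e :=
        Subtype.ext (by rw [hq₀, e0.1, hr, Subalgebra.coe_smul, Algebra.smul_def])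
      have t1 : ∀ i, q₁ i (c * (e : CliffordAlgebra Q)) = s i • e := fun i =>
        Subtype.ext (by rw [hq₁, e0.2, ← mul_assoc, hs i, Subalgebra.coe_smul, Algebra.smul_def])
      rw [t0, Finset.sum_congr rfl fun i _ => congrArg (_ ⊗ₜ[R] ·) (t1 i)]
      rw [TensorProduct.tmul_smul, Finset.sum_congr rfl fun i _ => TensorProduct.tmul_smul (s i) _ e]
      simp only [TensorProduct.smul_tmul', ← TensorProduct.sum_tmul, ← TensorProduct.add_tmul]
      congr 1
      refine Subtype.ext ?_
      show ((r • (1 : ↥(Subalgebra.center R (CliffordAlgebra Q))) + ∑ i, s i • ⟨z i, hcz i⟩ :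
        ↥(Subalgebra.center R (CliffordAlgebra Q))) : CliffordAlgebra Q) = c
      rw [Subalgebra.coe_add, Subalgebra.coe_smul, OneMemClass.coe_one, ← Algebra.algebraMap_eq_smul_one, ← hr,
        AddSubmonoidClass.coe_finsetSum]
      simp only [Subalgebra.coe_smul]
      conv_rhs => rw [← par_add_par Q c, ← one_mul (par Q 1 c), ← hsum, Finset.sum_mul]
      congr 1
      refine Finset.sum_congr rfl fun i _ => ?_
      rw [mul_assoc, hs i, Algebra.smul_def, Algebra.commutes]
  · simp only [Φ, LinearMap.add_apply, LinearMap.sum_apply, LinearMap.comp_apply, TensorProduct.mk_apply, map_add,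
      map_sum, hμ]
    show (1 : CliffordAlgebra Q) * par Q 0 y + ∑ i, z i * (w i * par Q 1 y) = y
    simp only [← mul_assoc, ← Finset.sum_mul, hsum, one_mul, par_add_par]

omit hQ in
include b in
theorem exists_isCompl_range_ι : ∃ W : Submodule R (CliffordAlgebra Q), IsCompl (LinearMap.range (ι Q)) W := by
  haveI := Module.Free.of_basis b
  obtain ⟨B, hB⟩ := exists_toExterior (Q := Q) b
  let proj : CliffordAlgebra Q →ₗ[R] CliffordAlgebra Q :=
    (ι Q).comp ((ExteriorAlgebra.ιInv (R := R) (M := M)).comp (changeForm hB))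
  have hl : ∀ v, proj (ι Q v) = ι Q v := fun v => by
    show ι Q (ExteriorAlgebra.ιInv (changeForm hB (ι Q v))) = ι Q v
    rw [changeForm_ι]
    exact congrArg (ι Q) (ExteriorAlgebra.ι_leftInverse v)
  exact ⟨LinearMap.ker proj, LinearMap.IsProj.isCompl (p := LinearMap.range (ι Q)) (f := proj)
    ⟨fun x => ⟨_, rfl⟩, fun x ⟨v, hv⟩ => by rw [← hv]; exact hl v⟩⟩

end Result

end QuadSch
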