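import Groth.Agent.QuadSch.GPinSmooth

/-!
Smoothness of the Pin group scheme of a semiregular form of odd rank at least three.
-/

universe u

open TensorProduct CliffordAlgebra QuadCliff AlgebraicGeometry CategoryTheory
open scoped Matrix

namespace QuadSch

section Equations

variable {R : Type u} [CommRing R] {M : Type u} [AddCommGroup M] [Module R M] [Module.Free R M]
  (Q : QuadraticForm R M) {n : ℕ} (b : Module.Basis (Fin n) R M) {ι' : Type} [Fintype ι']
  (c : Module.Basis ι' R (CliffordAlgebra Q))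

/-- The equations of the Pin group. -/
noncomputable def pinSys : EqSys R (GPinVar n ι') (GPinEq n ι' ⊕ ι') where
  val A _ _ x := Sum.elim ((gpinSys Q b c).val A x)
    (fun a => (bcBasis Q c A).repr (star (gX c x) * gX c x - 1) a)
  natural {A B} _ _ _ _ φ x r := by
    rcases r with r | a
    · exact (gpinSys Q b c).natural φ x r
    · simp only [Sum.elim_inr]
      rw [← repr_mapBC]
      simp only [map_sub, map_mul, map_one, mapBC_star, mapBC_gX]

variable {A : Type u} [CommRing A] [Algebra R A]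

/-- Solutions are the Pin group. -/
noncomputable def pinSolEquiv :
    ↥(QuadGrp.pin Q A) ≃ {x : GPinVar n ι' → A // ∀ r, (pinSys Q b c).val A x r = 0} where
  toFun u := ⟨(gpinSolEquiv Q b c ⟨u.1, u.2.1⟩).1, by
    rintro (r | a)
    · exact (gpinSolEquiv Q b c ⟨u.1, u.2.1⟩).2 r
    · show (bcBasis Q c A).repr (star (gX c (gpinSolEquiv Q b c ⟨u.1, u.2.1⟩).1) *
        gX c (gpinSolEquiv Q b c ⟨u.1, u.2.1⟩).1 - 1) a = 0
      rw [show gX c (gpinSolEquiv Q b c ⟨u.1, u.2.1⟩).1 = (u.1 : CliffordAlgebra _) from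
        (exists_sol Q b c ⟨u.1, u.2.1⟩).choose_spec]
      rw [(QuadGrp.mem_normOne _ u.1).mp u.2.2, sub_self, map_zero, Finsupp.zero_apply]⟩
  invFun x := ⟨((gpinSolEquiv Q b c).symm ⟨x.1, fun r => x.2 (.inl r)⟩).1,
    ((gpinSolEquiv Q b c).symm ⟨x.1, fun r => x.2 (.inl r)⟩).2, (QuadGrp.mem_normOne _ _).mpr (by
      show star (gX c x.1) * gX c x.1 = 1
      rw [← sub_eq_zero]
      exact (bcBasis Q c A).repr.map_eq_zero_iff.mp (Finsupp.ext fun a => x.2 (.inr a)))⟩
  left_inv u := Subtype.ext (congrArg Subtype.val ((gpinSolEquiv Q b c).symm_apply_apply ⟨u.1, u.2.1⟩) :)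
  right_inv x := Subtype.ext
    (congrArg Subtype.val ((gpinSolEquiv Q b c).apply_symm_apply ⟨x.1, fun r => x.2 (.inl r)⟩) :)

variable {Q} {G : Over (Spec (CommRingCat.of R))} [GrpObj G]

open MonObj in
/-- A representing scheme of `Pin(Q)` has the points of a finitely presented algebra. -/
noncomputable def pinPointsEquiv (D : QuadGrp.PinRep Q G) : PointsEquiv G (ZeroAlg (pinSys Q b c).rel) where
  toHom A _ _ := (D.pts A).toEquiv.trans ((pinSolEquiv Q b c).trans ((pinSys Q b c).pointsEquiv A).symm)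
  natural A B _ _ _ _ φ y := by
    refine ((pinSys Q b c).pointsEquiv B).injective ?_
    simp only [Equiv.trans_apply, Equiv.apply_symm_apply]
    have key : ∀ f : ZeroAlg (pinSys Q b c).rel →ₐ[R] A,
        gX c ((pinSys Q b c).pointsEquiv B (φ.comp f)).1 = mapBC Q φ (gX c ((pinSys Q b c).pointsEquiv A f).1) :=
      fun f => by rw [mapBC_gX]; rfl
    refine Subtype.ext (congrArg Subtype.val (sol_ext Q b c
      (x := ⟨_, fun r => (pinSolEquiv Q b c (D.pts B (QuadGrp.specOverMap R φ ≫ y))).2 (.inl r)⟩)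
      (y := ⟨_, fun r => (((pinSys Q b c).pointsEquiv B) (φ.comp
        (((pinSys Q b c).pointsEquiv A).symm (pinSolEquiv Q b c (D.pts A y))))).2 (.inl r)⟩) ?_) :)
    show gX c (pinSolEquiv Q b c (D.pts B (QuadGrp.specOverMap R φ ≫ y))).1 = gX c
      ((pinSys Q b c).pointsEquiv B (φ.comp (((pinSys Q b c).pointsEquiv A).symm (pinSolEquiv Q b c (D.pts A y))))).1
    rw [key, Equiv.apply_symm_apply]
    refine (exists_sol Q b c _).choose_spec.trans ?_
    show _ = mapBC Q φ (gX c (gpinSolEquiv Q b c ⟨(D.pts A y).1, (D.pts A y).2.1⟩).1)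
    rw [show gX c (gpinSolEquiv Q b c ⟨(D.pts A y).1, (D.pts A y).2.1⟩).1 = _ from (exists_sol Q b c _).choose_spec]
    exact D.natural A B φ (mapBC Q φ) (mapBC_ι Q φ) (mapBC_algebraMap Q φ) y

end Equations

section Norm

variable {A : Type u} [CommRing A] {N : Type u} [AddCommGroup N] [Module A N] [Module.Free A N]
  {q : QuadraticForm A N}

theorem star_mem_evenOdd {i : ZMod 2} {x : CliffordAlgebra q} (hx : x ∈ evenOdd q i) : star x ∈ evenOdd q i := by
  rw [CliffordAlgebra.star_def]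
  exact (reverse_mem_evenOdd_iff (Q := q)).mpr ((involute_mem_evenOdd_iff (Q := q)).mpr hx)

omit [Module.Free A N] in
theorem norm_comm {u : (CliffordAlgebra q)ˣ} (g : N ≃ₗ[A] N)
    (hu : ∀ v, (u : CliffordAlgebra q) * ι q v = ι q (g v) * u) (v : N) :
    ι q v * (star (u : CliffordAlgebra q) * u) = star (u : CliffordAlgebra q) * u * ι q v := by
  have h := congrArg star (hu v)
  rw [star_mul, star_mul, star_ι, star_ι, neg_mul, mul_neg, neg_inj] at h
  rw [← mul_assoc, h, mul_assoc, ← hu, mul_assoc]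

theorem norm_even {u : CliffordAlgebra q} (hu : QuadGrp.IsLocHomog q u) : star u * u ∈ evenOdd q 0 := by
  obtain ⟨e, he, h0, h1⟩ := hu
  have : star u * u = star (e • u) * (e • u) + star ((1 - e) • u) * ((1 - e) • u) := by
    have he' : e * e + (1 - e) * (1 - e) = 1 := by linear_combination 2 * he.eq
    rw [CliffordAlgebra.star_smul, CliffordAlgebra.star_smul, smul_mul_smul_comm, smul_mul_smul_comm, ← add_smul, he', one_smul]
  rw [this]
  refine Submodule.add_mem _ (by simpa using SetLike.mul_mem_graded (star_mem_evenOdd h0) h0) ?_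
  simpa [show (1 + 1 : ZMod 2) = 0 by decide] using SetLike.mul_mem_graded (star_mem_evenOdd h1) h1

/-- An even central element of a semiregular form of odd rank is a scalar. -/
theorem exists_eq_algebraMap {m : ℕ} (b : Module.Basis (Fin (2 * m + 1)) A N)
    (hQ : QuadGrp.IsSemiregular b (LinearEquiv.refl A A) q) {x : CliffordAlgebra q} (hx : x ∈ evenOdd q 0)
    (hc : ∀ v, ι q v * x = x * ι q v) : ∃ r, x = algebraMap A _ r := by
  let J : Ideal A :=
    { carrier := {s | ∃ r, s • x = algebraMap A _ r}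
      add_mem' := by
        rintro s t ⟨r, hr⟩ ⟨r', hr'⟩
        exact ⟨r + r', by rw [add_smul, hr, hr', map_add]⟩
      zero_mem' := ⟨0, by rw [zero_smul, map_zero]⟩
      smul_mem' := by
        rintro a s ⟨r, hr⟩
        exact ⟨a * r, by rw [smul_assoc, hr, Algebra.smul_def, map_mul]⟩ }
  suffices h1 : (1 : A) ∈ J by
    obtain ⟨r, hr⟩ := h1
    exact ⟨r, by rw [← hr, one_smul]⟩
  rw [← Ideal.eq_top_iff_one]
  by_contra hne
  obtain ⟨p, hp, hle⟩ := Ideal.exists_le_maximal J hne
  haveI := hp.isPrime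
  let B := Localization.AtPrime p
  have hcB : ∀ y, toBC B q x * y = y * toBC B q x := fun y => by
    refine (mul_comm_of_ι (fun v => ?_) y).symm
    exact comm_of_toBC (fun m => by rw [← map_mul, ← map_mul, hc]) v
  obtain ⟨r', hr'⟩ := (exists_oddData (b.baseChange B) (isSemiregular_baseChange B b hQ)).even_center _
    (toBC_mem_evenOdd B q hx) fun y _ => hcB y
  obtain ⟨⟨r, ⟨s, hs⟩⟩, hrs⟩ := IsLocalization.surj p.primeCompl r'
  obtain ⟨t, ht, htx⟩ := exists_smul_eq_zero B q p.primeCompl (x := s • x - algebraMap A _ r) (by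
    rw [map_sub, map_smul, AlgHom.commutes, hr', Algebra.smul_def, IsScalarTower.algebraMap_apply A B,
      IsScalarTower.algebraMap_apply A B (CliffordAlgebra (QuadGrp.baseChangeForm B q)) r,
      ← map_mul, mul_comm, hrs, sub_self])
  refine p.primeCompl.mul_mem ht hs (hle ⟨t * r, ?_⟩)
  rw [mul_smul, ← sub_eq_zero, map_mul, ← Algebra.smul_def, ← smul_sub, htx]

theorem span_polar_eq_top {m : ℕ} (hm : 1 ≤ m) (b : Module.Basis (Fin (2 * m + 1)) A N)
    (hQ : QuadGrp.IsSemiregular b (LinearEquiv.refl A A) q) :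
    Ideal.span (Set.range fun p : Fin (2 * m + 1) × Fin (2 * m + 1) => QuadraticMap.polar q (b p.1) (b p.2)) = ⊤ := by
  classical
  have ho : Odd (2 * m + 1) := ⟨m, rfl⟩
  obtain ⟨B, hB⟩ := LinearMap.BilinMap.toQuadraticMap_surjective q
  let U : Matrix (Fin (2 * m + 1)) (Fin (2 * m + 1)) A := Matrix.of fun i j => B (b i) (b j)
  have hU : IsUnit (QuadGrpLib.hU U) := by
    have h := hQ
    rwa [QuadGrp.IsSemiregular, QuadGrp.halfDisc, QuadGrpLib.coeffs_eq_uCoeff b q B hB] at h
  by_contra hne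
  obtain ⟨p, hp, hle⟩ := Ideal.exists_le_maximal _ hne
  haveI := hp.isPrime
  let K := A ⧸ p
  letI := Ideal.Quotient.field p
  let π := Ideal.Quotient.mk p
  have hP : (U.map π + (U.map π)ᵀ) = 0 := Matrix.ext fun i j => by
    have : U i j + U j i = QuadraticMap.polar q (b i) (b j) := by
      rw [← hB, LinearMap.BilinMap.polar_toQuadraticMap]; rfl
    show π (U i j) + π (U j i) = 0
    rw [← map_add, this]
    exact Ideal.Quotient.eq_zero_iff_mem.mpr (hle (Ideal.subset_span ⟨(i, j), rfl⟩))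
  have hUk : IsUnit (QuadGrpLib.hU (U.map π)) := by rw [← QuadGrpLib.map_hU]; exact hU.map π
  have h2 : ¬IsUnit (2 : A ⧸ p) := fun h2 => by
    have := h2.mul hUk
    rw [QuadGrpLib.two_mul_hU ho, hP, Matrix.det_zero] at this
    exact not_isUnit_zero this
  obtain ⟨i, hi⟩ := exists_unit_adjugate_diag ho hUk h2
  haveI : Nontrivial (Fin (2 * m + 1)) := Fin.nontrivial_iff_two_le.mpr (by omega)
  rw [hP, Matrix.adjugate_zero] at hi
  exact not_isUnit_zero hi

/-- Correcting the norm along a square-zero ideal. -/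
theorem exists_norm_correction {m : ℕ} (hm : 1 ≤ m) (b : Module.Basis (Fin (2 * m + 1)) A N)
    (hQ : QuadGrp.IsSemiregular b (LinearEquiv.refl A A) q) {I : Ideal A} (hI : I ^ 2 = ⊥) {δ : A} (hδ : δ ∈ I) :
    ∃ h : (CliffordAlgebra q)ˣ, h ∈ QuadGrp.GPin q ∧
      (h : CliffordAlgebra q) - 1 ∈ I • (⊤ : Submodule A (CliffordAlgebra q)) ∧
      star (h : CliffordAlgebra q) * h = algebraMap A _ (1 - δ) := by
  classical
  obtain ⟨c, hc⟩ := (Ideal.mem_span_range_iff_exists_fun ..).mp
    ((span_polar_eq_top hm b hQ).symm ▸ Submodule.mem_top : (1 : A) ∈ _)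
  let t : Fin (2 * m + 1) × Fin (2 * m + 1) → A := fun p => -δ * c p
  let w : CliffordAlgebra q := ∑ p, t p • (ι q (b p.1) * ι q (b p.2))
  have ht : ∀ p, t p ∈ I := fun p => I.mul_mem_right _ (I.neg_mem hδ)
  have hwI : w ∈ I • (⊤ : Submodule A (CliffordAlgebra q)) :=
    Submodule.sum_mem _ fun p _ => Submodule.smul_mem_smul (ht p) Submodule.mem_top
  have hw2 : w * w = 0 := mul_eq_zero_of_smul_top hI hwI hwI
  let h : (CliffordAlgebra q)ˣ := ⟨1 + w, 1 - w,
    by rw [mul_sub, add_mul, add_mul, hw2]; simp, by rw [sub_mul, mul_add, mul_add, hw2]; simp⟩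
  have hsw : star w + w = algebraMap A _ (-δ) := by
    have : ∀ p : Fin (2 * m + 1) × Fin (2 * m + 1),
        star (t p • (ι q (b p.1) * ι q (b p.2))) + t p • (ι q (b p.1) * ι q (b p.2)) =
          algebraMap A _ (t p * QuadraticMap.polar q (b p.1) (b p.2)) := fun p => by
      rw [CliffordAlgebra.star_smul, star_mul, star_ι, star_ι, neg_mul_neg, ← smul_add, add_comm, ι_mul_ι_add_swap, Algebra.smul_def,
        ← map_mul]
    show star (∑ p, _) + ∑ p, _ = _
    rw [star_sum, ← Finset.sum_add_distrib, Finset.sum_congr rfl fun p _ => this p, ← map_sum]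
    congr 1
    simp only [t, mul_assoc]
    rw [← Finset.mul_sum, hc, mul_one]
  let l : N →ₗ[A] N := ∑ p, t p •
    ((QuadraticMap.polarBilin q (b p.2)).smulRight (b p.1) - (QuadraticMap.polarBilin q (b p.1)).smulRight (b p.2))
  have hl : ∀ v, ι q (l v) = w * ι q v - ι q v * w := fun v => by
    simp only [l, LinearMap.sum_apply, LinearMap.smul_apply, LinearMap.sub_apply, LinearMap.smulRight_apply, map_sum,
      map_smul, map_sub, w, Finset.sum_mul, Finset.mul_sum, ← Finset.sum_sub_distrib, QuadraticMap.polarBilin_apply_apply]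
    refine Finset.sum_congr rfl fun p _ => ?_
    rw [smul_mul_assoc, mul_smul_comm, ← smul_sub]
    congr 1
    have e1 := ι_mul_ι_add_swap (Q := q) (b p.2) v
    have e2 := ι_mul_ι_add_swap (Q := q) (b p.1) v
    rw [Algebra.smul_def, Algebra.smul_def, ← e1, ← e2]
    rw [show (ι q (b p.2) * ι q v + ι q v * ι q (b p.2)) * ι q (b p.1) =
      ι q (b p.1) * (ι q (b p.2) * ι q v + ι q v * ι q (b p.2)) by
        rw [e1]; exact Algebra.commutes _ _]
    noncomm_ring
  have hll : ∀ v, l (l v) = 0 := fun v => by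
    refine ι_injective b (Q := q) ?_
    rw [map_zero, hl, hl, mul_sub, sub_mul, ← mul_assoc w w, hw2, zero_mul, mul_assoc (ι q v), hw2, mul_zero,
      zero_sub, sub_zero]
    have : w * ι q v * w = 0 := by
      refine mul_eq_zero_of_smul_top hI ?_ hwI
      refine Submodule.smul_induction_on hwI (fun a ha y _ => ?_) fun y z hy hz => by
        rw [add_mul]; exact Submodule.add_mem _ hy hz
      rw [smul_mul_assoc]; exact Submodule.smul_mem_smul ha Submodule.mem_top
    rw [← mul_assoc w (ι q v) w, this, neg_zero, sub_zero]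
  let g : N ≃ₗ[A] N := LinearEquiv.ofLinearMap (LinearMap.id + l) (LinearMap.id - l)
    (LinearMap.ext fun v => by simp [hll, map_sub]) (LinearMap.ext fun v => by simp [hll, map_add])
  refine ⟨h, ⟨QuadCliff.mem_GPin'_of_conj g fun v => ?_, (QuadGrp.mem_LH _ h).mpr ⟨1, IsIdempotentElem.one, ?_, ?_⟩⟩,
    by show 1 + w - 1 ∈ _; rw [add_sub_cancel_left]; exact hwI, ?_⟩
  · show (1 + w) * ι q v = ι q (v + l v) * (1 + w)
    have h0 : ι q (l v) * w = 0 := by
      rw [hl, sub_mul, mul_assoc (ι q v), hw2, mul_zero, sub_zero]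
      refine mul_eq_zero_of_smul_top hI ?_ hwI
      refine Submodule.smul_induction_on hwI (fun a ha y _ => ?_) fun y z hy hz => by
        rw [add_mul]; exact Submodule.add_mem _ hy hz
      rw [smul_mul_assoc]; exact Submodule.smul_mem_smul ha Submodule.mem_top
    rw [map_add, add_mul, add_mul, mul_add, mul_add, h0, add_zero, one_mul, mul_one, mul_one, hl]
    abel
  · rw [one_smul]
    refine Submodule.add_mem _ (SetLike.one_mem_graded _) (Submodule.sum_mem _ fun p _ => Submodule.smul_mem _ _ ?_)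
    exact ι_mul_ι_mem_evenOdd_zero q _ _
  · rw [sub_self, zero_smul]; exact Submodule.zero_mem _
  · show star (1 + w) * (1 + w) = _
    have hs : star w * w = 0 := by
      refine mul_eq_zero_of_smul_top hI ?_ hwI
      show star (∑ p, _) ∈ _
      rw [star_sum]
      exact Submodule.sum_mem _ fun p _ => by rw [CliffordAlgebra.star_smul]; exact Submodule.smul_mem_smul (ht p) Submodule.mem_top
    rw [star_add, star_one, mul_add, add_mul, add_mul, hs, one_mul, one_mul, mul_one, add_zero]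
    rw [show (1 : CliffordAlgebra q) + star w + w = 1 + (star w + w) by rw [add_assoc], hsw, map_neg, map_sub, map_one]
    abel

end Norm

variable {R : Type u} [CommRing R] {m : ℕ} {Q : QuadraticForm R (Fin (2 * m + 1) → R)}
  (hQ : QuadGrp.IsSemiregular (Pi.basisFun R (Fin (2 * m + 1))) (LinearEquiv.refl R R) Q)

include hQ

/-- Lifting elements of the Pin group. -/
theorem pin_lift (hm : 1 ≤ m) {A : Type u} [CommRing A] [Algebra R A] {I : Ideal A} (hI : I ^ 2 = ⊥)
    (u : ↥(QuadGrp.pin Q (A ⧸ I))) :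
    ∃ w : ↥(QuadGrp.pin Q A),
      mapBC Q (Ideal.Quotient.mkₐ R I) (w.1 : CliffordAlgebra (QuadGrp.baseChangeForm A Q)) =
        (u.1 : CliffordAlgebra (QuadGrp.baseChangeForm (A ⧸ I) Q)) := by
  let b := (Pi.basisFun R (Fin (2 * m + 1))).baseChange A
  let q := QuadGrp.baseChangeForm A Q
  let φ := Ideal.Quotient.mkₐ R I
  have hQA : QuadGrp.IsSemiregular b (LinearEquiv.refl A A) q :=
    isSemiregular_baseChange A (Pi.basisFun R (Fin (2 * m + 1))) hQ
  obtain ⟨w, hw⟩ := gpin_lift ⟨fun h => absurd h (Nat.not_even_iff_odd.mpr ⟨m, rfl⟩), fun _ => hQ⟩ hI ⟨u.1, u.2.1⟩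
  obtain ⟨g, -, hg⟩ := exists_isometry_of_mem_GPin' b w.2.1
  obtain ⟨r, hr⟩ := exists_eq_algebraMap b hQA (norm_even w.2.2) (norm_comm g hg)
  have hrI : r - 1 ∈ I := by
    have h := congrArg (mapBC Q φ) hr
    rw [map_mul, mapBC_star, hw, mapBC_algebraMap, (QuadGrp.mem_normOne _ u.1).mp u.2.2] at h
    rw [← Ideal.Quotient.eq_zero_iff_mem, map_sub, map_one, sub_eq_zero]
    refine QuadCliff.algebraMap_injective ((Pi.basisFun R (Fin (2 * m + 1))).baseChange (A ⧸ I))
      (Q := QuadGrp.baseChangeForm (A ⧸ I) Q) ?_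
    rw [map_one]
    exact h.symm
  obtain ⟨h, hh, hhI, hhn⟩ := exists_norm_correction hm b hQA hI hrI
  refine ⟨⟨w.1 * h, (QuadGrp.gpin Q A).mul_mem w.2 hh, (QuadGrp.mem_normOne _ _).mpr ?_⟩, ?_⟩
  · rw [Units.val_mul, star_mul, mul_assoc, ← mul_assoc (star (w.1 : CliffordAlgebra q)), hr, Algebra.commutes,
      ← mul_assoc, hhn, ← map_mul, show (1 - (r - 1)) * r = 1 by
        linear_combination -(mul_eq_zero_of_sq hI hrI hrI), map_one]
  · have h1 : mapBC Q φ (h : CliffordAlgebra q) = 1 := by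
      rw [← sub_eq_zero, ← map_one (mapBC Q φ), ← map_sub]
      exact mapBC_eq_zero_of_smul_top hhI
    show mapBC Q φ ((w.1 * h : (CliffordAlgebra q)ˣ) : CliffordAlgebra q) = _
    rw [Units.val_mul, map_mul, hw, h1, mul_one]

open MonObj in
/-- The Pin group scheme is smooth in odd rank at least three. -/
theorem smooth_pinRep (hm : 1 ≤ m) {G : Over (Spec (CommRingCat.of R))} [GrpObj G] (D : QuadGrp.PinRep Q G) :
    AlgebraicGeometry.Smooth G.hom := by
  obtain ⟨c⟩ := exists_fin_basis (q := Q) (Pi.basisFun R (Fin (2 * m + 1)))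
  have P := pinPointsEquiv (Pi.basisFun R (Fin (2 * m + 1))) c D
  haveI := zeroAlg_finitePresentation (pinSys Q (Pi.basisFun R (Fin (2 * m + 1))) c).rel
  refine P.smooth_of_lift fun A _ _ I hI y => ?_
  obtain ⟨w, hw⟩ := pin_lift hQ hm hI (D.pts (A ⧸ I) y)
  refine ⟨(D.pts A).symm w, (D.pts (A ⧸ I)).injective (Subtype.ext (Units.ext ?_))⟩
  rw [D.natural A (A ⧸ I) (Ideal.Quotient.mkₐ R I) (mapBC Q _) (mapBC_ι Q _) (mapBC_algebraMap Q _),
    MulEquiv.apply_symm_apply]
  exact hw

end QuadSch
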